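import Cfsg.Agent.Lib.U62Aut.Model.Grp

/-!
The maps commuting with the linear group are the scalars; the normaliser of the linear group among the
isometries is the semilinear group times the scalars.
-/

set_option autoImplicit false
set_option maxRecDepth 20000

namespace Cfsg.Agent.U62Aut

open Cfsg.Agent.PermCert Cfsg.Agent.U62Rec.Model

theorem om_facts : ∀ v < 256, omC (omC (omC v)) = v ∧ q0 (omC v) = q0 v ∧
    omC v = linC [omC 1, omC 2, omC 4, omC 8, omC 16, omC 32, omC 64, omC 128] v := by decide +kernel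

/-- Multiplication by `ω` as a permutation. -/
def omP : Equiv.Perm Vec where
  toFun := omV
  invFun v := omV (omV v)
  left_inv v := Fin.ext (om_facts v v.2).1
  right_inv v := Fin.ext (om_facts v v.2).1

theorem omP_apply (v : Vec) : omP v = omV v := rfl

theorem omP_cube : omP ^ 3 = 1 := Equiv.ext fun v => Fin.ext (om_facts v v.2).1

/-- Additive and preserving the form. -/
def Isom (σ : Equiv.Perm Vec) : Prop :=
  (∀ a b, σ (xorV a b) = xorV (σ a) (σ b)) ∧ ∀ a, q0 (σ a) = q0 a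

theorem isom_one : Isom 1 := ⟨fun _ _ => rfl, fun _ => rfl⟩

theorem isom_mul {σ τ : Equiv.Perm Vec} (h : Isom σ) (h' : Isom τ) : Isom (σ * τ) :=
  ⟨fun a b => by simp only [Equiv.Perm.mul_apply, h'.1, h.1],
    fun a => by simp only [Equiv.Perm.mul_apply, h.2, h'.2]⟩

theorem isom_inv {σ : Equiv.Perm Vec} (h : Isom σ) : Isom σ⁻¹ :=
  ⟨fun a b => σ.injective (by rw [h.1]; simp), fun a => by
    conv_rhs => rw [← perm_self_inv σ a, h.2]⟩

theorem isom_omP : Isom omP :=
  ⟨fun a b => Fin.ext (by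
    show omC (Nat.xor a b) = Nat.xor (omC a) (omC b)
    rw [(om_facts (Nat.xor a b) (xorV a b).2).2.2, (om_facts a a.2).2.2, (om_facts b b.2).2.2]
    exact linC_xor _ _ _),
  fun a => (om_facts a a.2).2.1⟩

theorem isom_omP_pow (k : ℕ) : Isom (omP ^ k) := by
  induction k with
  | zero => rw [pow_zero]; exact isom_one
  | succ k ih => rw [pow_succ]; exact isom_mul ih isom_omP

theorem isom_semi {g : Equiv.Perm Vec} (h : g ∈ Agrp) : Isom g := ⟨semi_xor h, semi_q h⟩

/-- The zero vector. -/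
def z0V : Vec := ⟨0, by norm_num⟩

theorem isom_zero {σ : Equiv.Perm Vec} (h : Isom σ) : σ z0V = z0V := by
  have h0 := h.1 z0V z0V
  rw [show xorV z0V z0V = z0V from rfl] at h0
  rw [h0]
  exact Fin.ext (Nat.xor_self _)

theorem omP_comm {g : Equiv.Perm Vec} (h : g ∈ Lgrp) : Commute g omP :=
  Equiv.ext fun v => (linLike h).2.1 v

theorem omP_swap {g : Equiv.Perm Vec} (h : g ∈ Agrp) (hn : g ∉ Lgrp) : g * omP = omP⁻¹ * g := by
  have hf : frV * g ∈ Lgrp := h.resolve_left hn
  refine Equiv.ext fun v => ?_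
  show g (omV v) = omV (omV (g v))
  refine frV.injective ?_
  rw [frV_om, frV_om, show frV (g (omV v)) = omV (frV (g v)) from (linLike hf).2.1 v]
  exact congrArg omV (Fin.ext (om_facts (frV (g v)) (frV (g v)).2).1).symm

theorem span_sing : (allBelow (fun v => Nat.beq v 0 || singB v ||
    (List.range 256).any fun u => singB u && singB (Nat.xor v u)) 256) = true := by
  decide +kernel

theorem fixed_line : (allBelow (fun v => !(stabGens.all fun g => Nat.beq (get 8 g.1 v) v) ||
    (Nat.beq v 0 || Nat.beq v 5 || Nat.beq v (omC 5) || Nat.beq v (omC (omC 5)))) 256) = true := by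
  decide +kernel

theorem fix_of_fix_five {c : Equiv.Perm Vec} (hc : Isom c) (hcomm : ∀ g ∈ Lgrp, Commute g c) (h5 : c v5 = v5) :
    c = 1 := by
  have hs : ∀ v, Sing v → c v = v := fun v hv => by
    obtain ⟨g, hg, rfl⟩ := exists_to hv
    rw [← Equiv.Perm.mul_apply, ← (hcomm g hg).eq, Equiv.Perm.mul_apply, h5]
  refine Equiv.ext fun v => ?_
  rw [Equiv.Perm.one_apply]
  have hh := allBelow_spec _ _ span_sing v v.2
  simp only [Bool.or_eq_true, Nat.beq_eq, List.any_eq_true, List.mem_range, Bool.and_eq_true] at hh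
  rcases hh with (h | h) | ⟨u, hu', hu, hu2⟩
  · rw [show v = z0V from Fin.ext h]
    exact isom_zero hc
  · exact hs v ((sing_iff v).2 h)
  · let uu : Vec := ⟨u, hu'⟩
    have e : v = xorV uu (xorV v uu) := Fin.ext (by
      show (v : ℕ) = u ^^^ ((v : ℕ) ^^^ u)
      rw [Nat.xor_comm (v : ℕ), ← Nat.xor_assoc, Nat.xor_self, Nat.zero_xor])
    rw [e, hc.1, hs uu ((sing_iff uu).2 hu), hs _ ((sing_iff (xorV v uu)).2 hu2)]

/-- An isometry commuting with the linear group is a scalar. -/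
theorem scalar_of_comm {c : Equiv.Perm Vec} (hc : Isom c) (hcomm : ∀ g ∈ Lgrp, Commute g c) :
    ∃ k, c = omP ^ k := by
  have hne : c v5 ≠ z0V := fun h => by
    rw [← isom_zero hc] at h
    exact absurd (c.injective h) (by decide)
  have hfix : stabGens.all (fun g => Nat.beq (get 8 g.1 (c v5)) (c v5)) = true := by
    rw [List.all_eq_true]
    intro g hg
    have hv := (core_facts.2.1 g hg).1
    have hmem : toPerm 8 256 g ∈ St :=
      genGroup_le_St (Subgroup.subset_closure (List.mem_map.2 ⟨g, hg, rfl⟩))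
    rw [Nat.beq_eq, (rep_toPerm hv (c v5)).1, Fin.val_inj, ← Equiv.Perm.mul_apply, (hcomm _ hmem.1).eq,
      Equiv.Perm.mul_apply, hmem.2]
  have h := allBelow_spec _ _ fixed_line (c v5) (c v5).2
  rw [hfix] at h
  simp only [Bool.not_true, Bool.false_or, Bool.or_eq_true, Nat.beq_eq] at h
  have key : ∀ k, c v5 = (omP ^ k) v5 → c = omP ^ k := fun k e => by
    have h1 := fix_of_fix_five (c := (omP ^ k)⁻¹ * c) (isom_mul (isom_inv (isom_omP_pow k)) hc)
      (fun g hg => (((omP_comm hg).pow_right k).inv_right).mul_right (hcomm g hg))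
      (by rw [Equiv.Perm.mul_apply, e, perm_inv_self])
    exact (inv_mul_eq_one.1 h1).symm
  rcases h with ((h | h) | h) | h
  · exact absurd (Fin.ext h) hne
  · exact ⟨0, key 0 (Fin.ext h)⟩
  · exact ⟨1, key 1 (Fin.ext h)⟩
  · exact ⟨2, key 2 (Fin.ext h)⟩

theorem conjA_mem {a : Equiv.Perm Vec} (ha : a ∈ Agrp) {g : Equiv.Perm Vec} (hg : g ∈ Lgrp) : a * g * a⁻¹ ∈ Lgrp := by
  rcases ha with h | h
  · exact mul_mem (mul_mem h hg) (inv_mem h)
  · have := frV_conj (mul_mem (mul_mem h hg) (inv_mem h))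
    rwa [show frV * (frV * a * g * (frV * a)⁻¹) * frV = (frV * frV) * (a * g * a⁻¹) * (frV⁻¹ * frV) by
      group, frV_sq, inv_mul_cancel, one_mul, mul_one] at this

/-- Conjugation of the linear group by the semilinear one. -/
def conjA : Agrp →* MulAut Lgrp where
  toFun a :=
    { toFun := fun g => ⟨a.1 * g.1 * a.1⁻¹, conjA_mem a.2 g.2⟩
      invFun := fun g => ⟨a.1⁻¹ * g.1 * a.1, by
        have := conjA_mem (inv_mem a.2) g.2
        rwa [inv_inv] at this⟩
      left_inv := fun g => Subtype.ext (by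
        show a.1⁻¹ * (a.1 * g.1 * a.1⁻¹) * a.1 = g.1
        group)
      right_inv := fun g => Subtype.ext (by
        show a.1 * (a.1⁻¹ * g.1 * a.1) * a.1⁻¹ = g.1
        group)
      map_mul' := fun g h => Subtype.ext (by
        show a.1 * (g.1 * h.1) * a.1⁻¹ = a.1 * g.1 * a.1⁻¹ * (a.1 * h.1 * a.1⁻¹)
        group) }
  map_one' := MulEquiv.ext fun g => Subtype.ext (by
    show (1 : Equiv.Perm Vec) * g.1 * (1 : Equiv.Perm Vec)⁻¹ = g.1
    group)
  map_mul' a b := MulEquiv.ext fun g => Subtype.ext (by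
    show (a.1 * b.1) * g.1 * (a.1 * b.1)⁻¹ = a.1 * (b.1 * g.1 * b.1⁻¹) * a.1⁻¹
    group)

theorem conjA_apply (a : Agrp) (g : Lgrp) : (conjA a g).1 = a.1 * g.1 * a.1⁻¹ := rfl

theorem conjA_injective : Function.Injective conjA := by
  rw [injective_iff_map_eq_one]
  intro a ha
  obtain ⟨k, hk⟩ := scalar_of_comm (isom_semi a.2) fun g hg => by
    have := congrArg Subtype.val (DFunLike.congr_fun ha ⟨g, hg⟩)
    rw [conjA_apply] at this
    exact (mul_inv_eq_iff_eq_mul.1 this).symm
  refine aHom_injective ?_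
  rw [map_one]
  refine Equiv.ext fun p => ?_
  rw [Equiv.Perm.one_apply, ← aHom_apply, hk]
  have : ∀ n v, Sing v → Sing ((omP ^ n) v) ∧ pIdx ((omP ^ n) v) = pIdx v := fun n => by
    induction n with
    | zero => exact fun v hv => ⟨hv, rfl⟩
    | succ n ih =>
      intro v hv
      obtain ⟨-, hs, hp, -⟩ := sing_spec hv
      rw [pow_succ, Equiv.Perm.mul_apply]
      exact ⟨(ih _ hs).1, (ih _ hs).2.trans hp⟩
  rw [(this k _ (rep_spec p).1).2, (rep_spec p).2]

/-- An isometry normalising the linear group is a semilinear map times a scalar. -/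
theorem semi_of_normal (hcard : Nat.card (MulAut Lgrp) = 51840) {g : Equiv.Perm Vec} (hg : Isom g)
    (θ : MulAut Lgrp) (hθ : ∀ x : Lgrp, g * x.1 * g⁻¹ = (θ x).1) :
    ∃ a : Agrp, ∃ k, g = a.1 * omP ^ k ∧ conjA a = θ := by
  haveI : Finite (MulAut Lgrp) := Nat.finite_of_card_ne_zero (by rw [hcard]; norm_num)
  obtain ⟨a, ha⟩ := ((Nat.bijective_iff_injective_and_card conjA).2
    ⟨conjA_injective, by rw [card_Agrp, hcard]⟩).2 θ
  obtain ⟨k, hk⟩ := scalar_of_comm (c := a.1⁻¹ * g) (isom_mul (isom_inv (isom_semi a.2)) hg) fun x hx => by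
    have e := hθ ⟨x, hx⟩
    rw [← ha, conjA_apply] at e
    exact (mul_inv_eq_iff_eq_mul.1 (show a.1⁻¹ * g * x * (a.1⁻¹ * g)⁻¹ = x by
      rw [show a.1⁻¹ * g * x * (a.1⁻¹ * g)⁻¹ = a.1⁻¹ * (g * x * g⁻¹) * a.1 by group, e]
      group)).symm
  exact ⟨a, k, by rw [← hk, mul_inv_cancel_left], ha⟩

end Cfsg.Agent.U62Aut
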