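import Cfsg.Agent.Lib.U62Aut.Model.Space
import Cfsg.Agent.Lib.U62Aut.Model.Scalar
import Cfsg.Agent.Lib.U62Rec.Model.Crd

/-!
Coordinates on the 2-core modulo its centre in which the centralizer acts as the semilinear group.
-/

set_option autoImplicit false
set_option linter.unusedSectionVars false
set_option linter.style.haveILetI false
set_option maxRecDepth 20000

namespace Cfsg.Agent.U62Aut

open Subgroup LargeExtra U62Rec.Model
open scoped commutatorElement

universe u

variable {G : Type u} [Group G] [Finite G]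

/-- Coordinates on the 2-core. -/
structure CrdA (z : G) where
  xs : XSLocal (coreAt z) z
  card : Nat.card (coreAt z) = 512
  /-- The vector of an element of the core. -/
  nv : G → Vec
  nv_mul : ∀ a ∈ coreAt z, ∀ b ∈ coreAt z, nv (a * b) = xorV (nv a) (nv b)
  nv_surj : ∀ v, ∃ a ∈ coreAt z, nv a = v
  nv_eq : ∀ a ∈ coreAt z, ∀ b ∈ coreAt z, nv a = nv b ↔ (b = a ∨ b = a * z)
  nv_sq : ∀ a ∈ coreAt z, (a * a = 1 ↔ q0 (nv a) = 0)
  /-- The map of an element of the centralizer. -/
  lin : G → Agrp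
  lin_mul : ∀ g h : G, Commute z g → Commute z h → lin (g * h) = lin g * lin h
  lin_one : ∀ g : G, Commute z g → (lin g = 1 ↔ g ∈ coreAt z)
  lin_conj : ∀ g : G, Commute z g → ∀ a ∈ coreAt z, nv (g * a * g⁻¹) = (lin g).1 (nv a)
  lin_surj : ∀ σ : Agrp, ∃ g : G, Commute z g ∧ lin g = σ

namespace ASpace

variable {z : G} {V : Type u} [AddCommGroup V] (S : ASpace z V)

include S

/-- Coordinates from the space without fixed vectors. -/
theorem exists_crdA (hfix : ∀ v, (∀ x, S.inn x v = v) → v = 0) : Nonempty (CrdA z) := by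
  classical
  haveI := S.finite
  have hρi := S.ρ_inv
  have hno : ∀ W : AddSubgroup V, Nat.card W = 4 → (∀ j, ∀ x ∈ W, S.gen j x ∈ W) → False := by
    intro W hW hinv
    have h0 : ∀ v ∈ W, v = 0 := fun v hv => hfix v fun x => S.fixed_four W hW hinv x v hv
    have : Nat.card W ≤ 1 := Finite.card_le_one_iff_subsingleton.2
      ⟨fun a b => Subtype.ext ((h0 _ a.2).trans (h0 _ b.2).symm)⟩
    omega
  obtain ⟨φ, φ0, φxor, φsurj, φinj, φA, φq⟩ :=
    S.six.coords hno S.q S.B S.hq S.hB S.hnd fun j v => S.q_inv _ v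
  have hbij : Function.Bijective (fun n : Vec => φ n) :=
    ⟨fun a b h => Fin.ext (φinj a a.2 b b.2 h), fun v => (φsurj v).elim fun n h => ⟨⟨n, h.1⟩, h.2⟩⟩
  let e0 : Vec ≃ V := Equiv.ofBijective _ hbij
  have e0_xor : ∀ a b : Vec, e0 (xorV a b) = e0 a + e0 b := fun a b => φxor a b
  have e0_q : ∀ n : Vec, S.q (e0 n) = (q0 n : ZMod 2) := fun n => φq n n.2
  have bitq : ∀ n : Vec, ((q0 n : ZMod 2) = 0 ↔ q0 n = 0) := by decide +kernel
  have qbin : ∀ n : Vec, q0 n = 0 ∨ q0 n = 1 := by decide +kernel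
  -- the action in the first coordinates
  let P : AutX →* Equiv.Perm Vec :=
    { toFun := fun x =>
        { toFun := fun n => e0.symm (S.ρ x (e0 n))
          invFun := fun n => e0.symm (S.ρ x⁻¹ (e0 n))
          left_inv := fun n => by simp [hρi]
          right_inv := fun n => by simpa using congrArg e0.symm (hρi x⁻¹ (e0 n)) }
      map_one' := Equiv.ext fun n => by
        show e0.symm (S.ρ 1 (e0 n)) = n
        rw [map_one]
        exact e0.symm_apply_apply n
      map_mul' := fun x y => Equiv.ext fun n => by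
        show e0.symm (S.ρ (x * y) (e0 n)) = e0.symm (S.ρ x (e0 (e0.symm (S.ρ y (e0 n)))))
        rw [map_mul, e0.apply_symm_apply]
        rfl }
  have hPe : ∀ x n, e0 (P x n) = S.ρ x (e0 n) := fun x n => e0.apply_symm_apply _
  have hPinj : Function.Injective P := fun x y h => S.ρ_inj (DFunLike.ext _ _ fun v => by
    obtain ⟨n, rfl⟩ := e0.surjective v
    rw [← hPe, ← hPe, h])
  have hPisom : ∀ x, Isom (P x) := fun x =>
    ⟨fun a b => e0.injective (by rw [hPe, e0_xor, map_add, e0_xor, hPe, hPe]), fun a => by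
      have h : (q0 (P x a) : ZMod 2) = q0 a := by rw [← e0_q, hPe, S.q_inv, e0_q]
      rcases qbin (P x a) with e | e <;> rcases qbin a with e' | e' <;> rw [e, e'] at h <;>
        simp_all⟩
  let P0 : Cfsg.PSp 2 (ZMod 3) →* Equiv.Perm Vec := P.comp MulAut.conj
  have hgen : ∀ j : Fin 6, P0 (gx j) = linP j := fun j => Equiv.ext fun n => by
    show e0.symm (S.gen j (e0 n)) = linP j n
    rw [Equiv.symm_apply_eq]
    show S.gen j (φ n) = φ (linP j n : ℕ)
    rw [linP_val j.2]
    exact φA j n n.2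
  have hrange : P0.range = Lgrp := by
    apply le_antisymm
    · rw [MonoidHom.range_eq_map, ← gx_top, MonoidHom.map_closure, Subgroup.closure_le]
      rintro _ ⟨_, ⟨j, rfl⟩, rfl⟩
      rw [hgen]
      exact linP_mem j.2
    · intro σ hσ
      refine lin_induction (P := fun σ => σ ∈ P0.range) (fun j hj => ?_) (one_mem _) (fun a b => mul_mem) hσ
      exact ⟨gx ⟨j, hj⟩, hgen _⟩
  have hP0inj : Function.Injective P0 := hPinj.comp conj_injective
  let eL : Cfsg.PSp 2 (ZMod 3) ≃* Lgrp :=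
    (MonoidHom.ofInjective hP0inj).trans (MulEquiv.subgroupCongr hrange)
  have eL_val : ∀ x, (eL x).1 = P0 x := fun x => rfl
  have hcardA : Nat.card (MulAut Lgrp) = 51840 := by
    rw [← Nat.card_congr (MulAut.congr eL).toEquiv, card_autX]
  have hnat : ∀ (β : AutX) (x : Cfsg.PSp 2 (ZMod 3)), P β * P0 x * (P β)⁻¹ = P0 (β x) := fun β x => by
    show P β * P (MulAut.conj x) * (P β)⁻¹ = P (MulAut.conj (β x))
    rw [← map_inv, ← map_mul, ← map_mul]
    congr 1
    refine MulEquiv.ext fun y => ?_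
    simp only [MulAut.mul_apply, MulAut.conj_apply, map_mul, map_inv, MulAut.apply_inv_self]
  -- an outer element
  obtain ⟨β₀, hβ₀⟩ : ∃ β : AutX, β ∉ (MulAut.conj : Cfsg.PSp 2 (ZMod 3) →* AutX).range := by
    by_contra h
    push Not at h
    have h1 := Subgroup.card_le_of_le (fun x _ => h x : (⊤ : Subgroup AutX) ≤ MulAut.conj.range)
    rw [Subgroup.card_top, card_autX, ← Nat.card_congr (MonoidHom.ofInjective conj_injective).toEquiv, card_X]
      at h1
    omega
  obtain ⟨a₀, k, hk, hθ⟩ := semi_of_normal hcardA (hPisom β₀) (MulAut.congr eL β₀) fun x => by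
    obtain ⟨y, rfl⟩ := eL.surjective x
    rw [eL_val, hnat]
    show _ = (eL (β₀ (eL.symm (eL y)))).1
    rw [eL.symm_apply_apply, eL_val]
  have ha₀ : (a₀ : Equiv.Perm Vec) ∉ Lgrp := by
    intro h
    obtain ⟨x, hx⟩ : (a₀ : Equiv.Perm Vec) ∈ P0.range := hrange.symm ▸ h
    refine hβ₀ ⟨x, MulEquiv.ext fun y => hP0inj ?_⟩
    have e1 := congrArg Subtype.val (DFunLike.congr_fun hθ (eL y))
    rw [conjA_apply, eL_val, ← hx] at e1
    rw [MulAut.conj_apply, map_mul, map_mul, map_inv]
    refine e1.trans ?_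
    show (eL (β₀ (eL.symm (eL y)))).1 = _
    rw [eL.symm_apply_apply, eL_val]
  -- new coordinates
  let eV : Vec ≃ V := (omP ^ k : Equiv.Perm Vec).trans e0
  have eV_apply : ∀ n, eV n = e0 ((omP ^ k) n) := fun n => rfl
  have eV_xor : ∀ a b : Vec, eV (xorV a b) = eV a + eV b := fun a b => by
    rw [eV_apply, (isom_omP_pow k).1, e0_xor, ← eV_apply, ← eV_apply]
  have eV_symm_add : ∀ u v, eV.symm (u + v) = xorV (eV.symm u) (eV.symm v) := fun u v => by
    rw [Equiv.symm_apply_eq, eV_xor, eV.apply_symm_apply, eV.apply_symm_apply]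
  let Q : AutX →* Equiv.Perm Vec := (MulAut.conj (omP ^ k)⁻¹).toMonoidHom.comp P
  have hQ : ∀ x, Q x = (omP ^ k)⁻¹ * P x * omP ^ k := fun x => by
    show (omP ^ k)⁻¹ * P x * (omP ^ k)⁻¹⁻¹ = _
    rw [inv_inv]
  have hQe : ∀ x n, eV (Q x n) = S.ρ x (eV n) := fun x n => by
    rw [eV_apply, hQ, Equiv.Perm.mul_apply, Equiv.Perm.mul_apply, perm_self_inv, hPe, eV_apply]
  have hQinj : Function.Injective Q := (MulAut.conj (omP ^ k)⁻¹).injective.comp hPinj
  have hQ0 : ∀ x, Q (MulAut.conj x) = P0 x := fun x => by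
    have hm : P0 x ∈ Lgrp := hrange ▸ ⟨x, rfl⟩
    rw [hQ]
    show (omP ^ k)⁻¹ * P0 x * omP ^ k = P0 x
    rw [← ((omP_comm hm).pow_right k).inv_right.eq, inv_mul_cancel_right]
  have hQβ : Q β₀ = a₀.1 := by
    have hsw : ∀ n : ℕ, a₀.1 * omP ^ n = (omP⁻¹) ^ n * a₀.1 := fun n => by
      induction n with
      | zero => simp
      | succ n ih =>
        rw [pow_succ, ← mul_assoc, ih, mul_assoc, omP_swap a₀.2 ha₀, ← mul_assoc, ← pow_succ]
    rw [hQ, hk, show (omP ^ k)⁻¹ * (a₀.1 * omP ^ k) * omP ^ k = (omP ^ k)⁻¹ * (a₀.1 * omP ^ (k + k)) by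
      rw [pow_add]; group, hsw, ← mul_assoc, ← inv_pow, ← pow_add,
      show k + (k + k) = 3 * k by ring, pow_mul, inv_pow omP 3, omP_cube, inv_one, one_pow, one_mul]
  have hQle : ∀ x, Q x ∈ Agrp := by
    have hcl : (⊤ : Subgroup AutX) ≤ Agrp.comap Q := by
      have hin : MulAut.conj.range ≤ Agrp.comap Q := by
        rintro _ ⟨x, rfl⟩
        rw [mem_comap, hQ0]
        exact lin_le (hrange ▸ ⟨x, rfl⟩)
      have hlt : MulAut.conj.range < Agrp.comap Q :=
        lt_of_le_of_ne hin fun e => hβ₀ (by rw [e, mem_comap, hQβ]; exact a₀.2)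
      haveI : Finite AutX := Nat.finite_of_card_ne_zero (by rw [card_autX]; norm_num)
      have h1 : Nat.card (MulAut.conj : Cfsg.PSp 2 (ZMod 3) →* AutX).range < Nat.card (Agrp.comap Q) := by
        refine lt_of_le_of_ne (Subgroup.card_le_of_le hin) fun h => hlt.ne ?_
        exact Subgroup.eq_of_le_of_card_ge hin h.ge
      rw [← Nat.card_congr (MonoidHom.ofInjective conj_injective).toEquiv, card_X] at h1
      have h2 := Subgroup.card_subgroup_dvd_card (Agrp.comap Q)
      rw [card_autX] at h2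
      refine (Subgroup.eq_top_of_card_eq _ ?_).ge
      rw [card_autX]
      obtain ⟨m, hm⟩ := h2
      match m, hm with
      | 0, hm => omega
      | 1, hm => omega
      | m + 2, hm => nlinarith
    exact fun x => hcl (mem_top x)
  -- the maps
  set C := centralizer ({z} : Set G) with hC
  let lin : G → Agrp := fun g => if h : g ∈ C then ⟨Q (S.χ ⟨g, h⟩), hQle _⟩ else 1
  have lin_eq : ∀ g (h : g ∈ C), (lin g).1 = Q (S.χ ⟨g, h⟩) := fun g h => by
    simp only [lin, dif_pos h]
  have hmemC : ∀ {g : G}, Commute z g → g ∈ C := fun hg => mem_centralizer_one.2 hg.eq.symm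
  refine ⟨{ xs := S.xs, card := S.card, nv := fun a => eV.symm (S.π a), nv_mul := ?_, nv_surj := ?_, nv_eq := ?_,
            nv_sq := ?_, lin := lin, lin_mul := ?_, lin_one := ?_, lin_conj := ?_, lin_surj := ?_ }⟩
  · intro a ha b hb
    show eV.symm (S.π (a * b)) = _
    rw [S.mul a ha b hb, eV_symm_add]
  · intro v
    obtain ⟨a, ha, h⟩ := S.surj (eV v)
    exact ⟨a, ha, by show eV.symm (S.π a) = v; rw [h, eV.symm_apply_apply]⟩
  · intro a ha b hb
    rw [eV.symm.injective.eq_iff, S.eq_iff a ha b hb]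
  · intro a ha
    rw [← bit_eq_zero, ← S.q_π a ha, ← eV.apply_symm_apply (S.π a), eV_apply, e0_q, bitq, (isom_omP_pow k).2,
      ← eV_apply, eV.apply_symm_apply]
  · intro g h hg hh
    apply Subtype.ext
    rw [coe_mul, lin_eq _ (hmemC (hg.mul_right hh)), lin_eq g (hmemC hg), lin_eq h (hmemC hh), ← map_mul,
      ← map_mul]
    rfl
  · intro g hg
    rw [Subtype.ext_iff, lin_eq g (hmemC hg), coe_one, ← map_one Q, hQinj.eq_iff, S.χ_eq_one]
  · intro g hg a ha
    rw [lin_eq g (hmemC hg)]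
    refine eV.injective ?_
    rw [hQe, eV.apply_symm_apply, eV.apply_symm_apply, S.ρ_π _ a ha]
  · intro σ
    let Q' : AutX →* Agrp := Q.codRestrict Agrp hQle
    haveI : Finite AutX := Nat.finite_of_card_ne_zero (by rw [card_autX]; norm_num)
    obtain ⟨x, hx⟩ := ((Nat.bijective_iff_injective_and_card Q').2
      ⟨fun a b h => hQinj (congrArg Subtype.val h), by rw [card_autX, card_Agrp]⟩).2 σ
    obtain ⟨g, rfl⟩ := S.χ_surj x
    exact ⟨g, (mem_centralizer_one.1 g.2 : (g : G) * z = z * g).symm,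
      Subtype.ext ((lin_eq _ g.2).trans (congrArg Subtype.val hx))⟩

end ASpace

end Cfsg.Agent.U62Aut
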