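import Cfsg.Agent.Lib.U62Aut.Model.Inv

/-!
Facts about the semilinear group: normal subgroups of exponent two of the stabiliser of a singular vector,
invariant totally singular subgroups, fixed vectors of the outer involutions and elementary subgroups
containing the involution with seven fixed points.
-/

set_option autoImplicit false
set_option maxRecDepth 20000
set_option maxHeartbeats 800000

namespace Cfsg.Agent.U62Aut

open Cfsg.Agent.PermCert Cfsg.Agent.U62Rec.Model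

theorem allBelow_intro {f : ℕ → Bool} : ∀ {n : ℕ}, (∀ i < n, f i = true) → allBelow f n = true
  | 0, _ => rfl
  | n + 1, h => by
    show (allBelow f n && f n) = true
    rw [allBelow_intro fun i hi => h i (hi.trans (Nat.lt_succ_self n)), h n (Nat.lt_succ_self n), Bool.and_self]

attribute [local irreducible] pack allBelow

theorem frV_v5 : frV v5 = v5 := by
  have h := stabOut_ok
  simp only [stabOutOK, Bool.and_eq_true, Nat.beq_eq] at h
  exact Fin.ext h.1.1.1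

theorem outer_mul {a b : Equiv.Perm Vec} (ha : a ∈ Agrp) (hb : b ∈ Agrp) (ha' : a ∉ Lgrp) (hb' : b ∉ Lgrp) :
    a * b ∈ Lgrp := by
  have := mul_mem (frV_conj (ha.resolve_left ha')) (hb.resolve_left hb')
  rwa [← mul_assoc frV frV, frV_sq, one_mul, mul_assoc a, ← mul_assoc frV frV, frV_sq, one_mul] at this

theorem conj_lin {g x : Equiv.Perm Vec} (hg : g ∈ Agrp) (hx : x ∈ Lgrp) : g * x * g⁻¹ ∈ Lgrp := by
  rcases hg with h | h
  · exact mul_mem (mul_mem h hx) (inv_mem h)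
  · have := frV_conj (mul_mem (mul_mem h hx) (inv_mem h))
    rw [mul_inv_rev, frV_inv] at this
    have e : frV * (frV * g * x * (g⁻¹ * frV)) * frV = g * x * g⁻¹ := by
      simp only [mul_assoc]
      rw [frV_sq, mul_one, ← mul_assoc frV frV, frV_sq, one_mul]
    rwa [e] at this

/-- The code of a permutation of the vectors. -/
def vCode (σ : Equiv.Perm Vec) : ℕ := pack 8 (fun v => if h : v < 256 then ((σ ⟨v, h⟩ : Vec) : ℕ) else 0) 256

theorem get_vCode (σ : Equiv.Perm Vec) (v : Vec) : get 8 (vCode σ) v = (σ v : ℕ) := by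
  rw [vCode, get_pack 8 _ 256 v v.2, dif_pos v.2]
  exact Nat.mod_eq_of_lt (Fin.is_lt _)

theorem vCode_eq {σ : Equiv.Perm Vec} {f : ℕ → ℕ} (h : ∀ v : Vec, f v = (σ v : ℕ)) : pack 8 f 256 = vCode σ :=
  pack_congr fun i hi => by rw [dif_pos hi]; exact h ⟨i, hi⟩

/-- The products of a chain in the stabiliser, by their codes. -/
theorem stab_prods {x : Equiv.Perm Vec} (hx : x ∈ St) :
    ∃ cs ∈ stabProds, ∀ v : Vec, J2.applyCodes 8 cs v = (x v : ℕ) := by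
  rw [St_eq, J2.cert_prodSet stab_cert] at hx
  exact J2.exists_codes (J2.cert_allRep stab_cert) x hx

theorem pool_facts {a : Elt} (ha : a ∈ stabPool) : Rep 8 a (toPerm 8 256 a) ∧ toPerm 8 256 a ∈ St := by
  have h := stabOut_ok
  simp only [stabOutOK, Bool.and_eq_true, List.all_eq_true] at h
  obtain ⟨⟨hv, hs⟩, h5⟩ := h.1.1.2 a ha
  refine ⟨rep_toPerm hv, cert_mem lin_cert hv hs, Fin.ext ?_⟩
  rw [← ((rep_toPerm hv) v5).1]
  exact Nat.eq_of_beq_eq_true h5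

theorem outer_prods {x : Equiv.Perm Vec} (hx : x ∈ St) (h2 : frV * x * (frV * x) = 1)
    {M : Subgroup (Equiv.Perm Vec)} (hM : ∀ a ∈ St, a * (frV * x) * a⁻¹ ∈ M) :
    5 ≤ ((M ⊓ Lgrp : Subgroup _) : Set (Equiv.Perm Vec)).ncard := by
  classical
  obtain ⟨cs, hcs, hval⟩ := stab_prods hx
  have hout : ∀ v : Vec, outS cs v = ((frV * x) v : ℕ) := fun v => by
    show frC (J2.applyCodes 8 cs v) = _
    rw [hval, ← frV_val]; rfl
  have h := stabOut_ok
  simp only [stabOutOK, Bool.and_eq_true, List.all_eq_true, Bool.or_eq_true] at h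
  rcases h.2 cs hcs with h | h
  · exfalso
    rw [Bool.not_eq_true', ← Bool.not_eq_true] at h
    refine h ?_
    refine allBelow_intro fun i hi => Nat.beq_eq.mpr ?_
    show outS cs (outS cs ((⟨i, hi⟩ : Vec) : ℕ)) = ((⟨i, hi⟩ : Vec) : ℕ)
    rw [hout, hout, ← Equiv.Perm.mul_apply, h2]
    rfl
  obtain ⟨T, hT⟩ : ∃ T, T = (((stabPool.take 10).map (conjS cs)).dedup.take 5) := ⟨_, rfl⟩
  rw [← hT] at h
  have hTmem : ∀ c ∈ T, ∃ a ∈ St, c = vCode (a * (frV * x) * a⁻¹) := fun c hc => by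
    obtain ⟨e, he, rfl⟩ := List.mem_map.1 (List.mem_dedup.1 (List.mem_of_mem_take (hT ▸ hc)))
    obtain ⟨hr, hm⟩ := pool_facts (List.mem_of_mem_take he)
    refine ⟨_, hm, vCode_eq fun v => ?_⟩
    rw [(hr v).2, hout, (hr _).1]
    rfl
  have hP : ∀ c ∈ pairProds T, ∃ u ∈ M ⊓ Lgrp, c = vCode u := fun c hc => by
    obtain ⟨x1, hx1, hc⟩ := List.mem_flatMap.1 hc
    obtain ⟨x2, hx2, rfl⟩ := List.mem_map.1 hc
    obtain ⟨a1, ha1, rfl⟩ := hTmem x1 hx1
    obtain ⟨a2, ha2, rfl⟩ := hTmem x2 hx2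
    refine ⟨a1 * (frV * x) * a1⁻¹ * (a2 * (frV * x) * a2⁻¹), ⟨mul_mem (hM a1 ha1) (hM a2 ha2), ?_⟩,
      vCode_eq fun v => by rw [get_vCode, get_vCode]; rfl⟩
    have ho : ∀ a ∈ St, a * (frV * x) * a⁻¹ ∈ Agrp ∧ a * (frV * x) * a⁻¹ ∉ Lgrp := fun a ha => by
      refine ⟨mul_mem (mul_mem (lin_le ha.1) (mul_mem frV_mem (lin_le hx.1))) (inv_mem (lin_le ha.1)), fun e => ?_⟩
      have h1 := mul_mem (mul_mem (inv_mem ha.1) e) ha.1
      rw [show a⁻¹ * (a * (frV * x) * a⁻¹) * a = frV * x by group] at h1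
      exact frV_not_mem (by simpa using mul_mem h1 (inv_mem hx.1))
    exact outer_mul (ho a1 ha1).1 (ho a2 ha2).1 (ho a1 ha1).2 (ho a2 ha2).2
  have h5 : 5 ≤ (pairProds T).toFinset.card := by
    rw [List.card_toFinset]
    exact Nat.le_of_ble_eq_true h
  refine h5.trans ?_
  rw [← Set.ncard_coe_finset]
  refine (Set.ncard_le_ncard (t := vCode '' ((M ⊓ Lgrp : Subgroup _) : Set (Equiv.Perm Vec))) (fun c hc => ?_)
    (Set.toFinite _)).trans (Set.ncard_image_le (Set.toFinite _))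
  obtain ⟨u, hu, rfl⟩ := hP c (List.mem_toFinset.1 (Finset.mem_coe.1 hc))
  exact ⟨u, hu, rfl⟩

/-- Normal subgroups of exponent two of the semilinear stabiliser of a singular vector. -/
theorem stab_elemA {n : Vec} (hn : Sing n) {N : Subgroup (Equiv.Perm Vec)} (hN : ∀ a ∈ N, a ∈ Agrp ∧ a n = n)
    (hsq : ∀ a ∈ N, a * a = 1) (hnor : ∀ g ∈ Agrp, g n = n → ∀ a ∈ N, g * a * g⁻¹ ∈ N) :
    Nat.card N ≤ 16 ∧ (Nat.card N ≤ 8 → N ≤ Lgrp) := by
  classical
  obtain ⟨γ, hγ, e⟩ := exists_to hn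
  set M := N.map (MulAut.conj γ⁻¹).toMonoidHom with hMdef
  have hMc : Nat.card M = Nat.card N := conj_map_card γ⁻¹ N
  have hMmem : ∀ a ∈ M, a ∈ Agrp ∧ a v5 = v5 ∧ a * a = 1 := by
    rintro _ ⟨a, ha, rfl⟩
    obtain ⟨h1, h2⟩ := hN a ha
    refine ⟨?_, ?_, ?_⟩
    · show γ⁻¹ * a * γ⁻¹⁻¹ ∈ Agrp
      exact mul_mem (mul_mem (lin_le (inv_mem hγ)) h1) (inv_mem (lin_le (inv_mem hγ)))
    · show (γ⁻¹ * a * γ⁻¹⁻¹) v5 = v5
      simp only [inv_inv, Equiv.Perm.mul_apply]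
      rw [e, h2, ← e, perm_inv_self]
    · show γ⁻¹ * a * γ⁻¹⁻¹ * (γ⁻¹ * a * γ⁻¹⁻¹) = 1
      rw [show γ⁻¹ * a * γ⁻¹⁻¹ * (γ⁻¹ * a * γ⁻¹⁻¹) = γ⁻¹ * (a * a) * γ⁻¹⁻¹ by group, hsq a ha, mul_one,
        mul_inv_cancel]
  have hMnor : ∀ g ∈ St, ∀ a ∈ M, g * a * g⁻¹ ∈ M := by
    rintro g hg _ ⟨a, ha, rfl⟩
    refine ⟨γ * g * γ⁻¹ * a * (γ * g * γ⁻¹)⁻¹, hnor _ (lin_le (mul_mem (mul_mem hγ hg.1) (inv_mem hγ))) ?_ a ha, ?_⟩
    · simp only [Equiv.Perm.mul_apply]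
      rw [← e, perm_inv_self, hg.2]
    · show γ⁻¹ * (γ * g * γ⁻¹ * a * (γ * g * γ⁻¹)⁻¹) * γ⁻¹⁻¹ = g * (γ⁻¹ * a * γ⁻¹⁻¹) * g⁻¹
      group
  have h8 : Nat.card ↥(M ⊓ Lgrp) ≤ 8 :=
    card_le_eight (fun a ha => ⟨ha.2, (hMmem a ha.1).2.1⟩) (fun a ha => (hMmem a ha.1).2.2)
      fun g hg a ha => ⟨hMnor g hg a ha.1, show g * a * g⁻¹ ∈ Lgrp from mul_mem (mul_mem hg.1 ha.2) (inv_mem hg.1)⟩
  rw [← hMc]
  by_cases hall : M ≤ Lgrp
  · rw [inf_eq_left.2 hall] at h8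
    refine ⟨by omega, fun _ a ha => ?_⟩
    have := mul_mem (mul_mem hγ (hall ⟨a, ha, rfl⟩)) (inv_mem hγ)
    simp only [MulEquiv.coe_toMonoidHom, MulAut.conj_apply] at this
    rwa [show γ * (γ⁻¹ * a * γ⁻¹⁻¹) * γ⁻¹ = a by group] at this
  obtain ⟨g, hg, hgL⟩ := SetLike.not_le_iff_exists.1 hall
  obtain ⟨hgA, hg5, hg2⟩ := hMmem g hg
  have hsplit : (M : Set (Equiv.Perm Vec)) =
      ((M ⊓ Lgrp : Subgroup _) : Set (Equiv.Perm Vec)) ∪ (fun x => g * x) '' ((M ⊓ Lgrp : Subgroup _) : Set (Equiv.Perm Vec)) := by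
    ext x
    constructor
    · intro hx
      by_cases h : x ∈ Lgrp
      · exact Or.inl ⟨hx, h⟩
      · refine Or.inr ⟨g⁻¹ * x, ⟨show g⁻¹ * x ∈ M from mul_mem (inv_mem hg) hx,
          outer_mul (inv_mem hgA) (hMmem x hx).1 (fun e => hgL (by simpa using Subgroup.inv_mem Lgrp e)) h⟩, by group⟩
    · rintro (hx | ⟨y, hy, rfl⟩)
      exacts [hx.1, mul_mem hg hy.1]
  have hd : Disjoint ((M ⊓ Lgrp : Subgroup _) : Set (Equiv.Perm Vec))
      ((fun x => g * x) '' ((M ⊓ Lgrp : Subgroup _) : Set (Equiv.Perm Vec))) := by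
    rw [Set.disjoint_left]
    rintro a ha ⟨b, hb, rfl⟩
    exact hgL (by simpa using mul_mem (show g * b ∈ Lgrp from ha.2) (Subgroup.inv_mem Lgrp hb.2))
  have hcM : Nat.card M = 2 * Nat.card ↥(M ⊓ Lgrp) := by
    rw [← SetLike.coe_sort_coe, Nat.card_coe_set_eq, hsplit, Set.ncard_union_eq hd,
      Set.ncard_image_of_injective _ (mul_right_injective g), ← Nat.card_coe_set_eq, two_mul]
    rfl
  refine ⟨by omega, fun h => ?_⟩
  exfalso
  have hxSt : frV * g ∈ St := ⟨(hgA.resolve_left hgL), by rw [Equiv.Perm.mul_apply, hg5, frV_v5]⟩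
  have hfx : frV * (frV * g) = g := by rw [← mul_assoc, frV_sq, one_mul]
  have h5 := outer_prods hxSt (by rw [hfx]; exact hg2) (M := M) (fun a ha => by rw [hfx]; exact hMnor a ha g hg)
  rw [← Nat.card_coe_set_eq] at h5
  simp only [SetLike.coe_sort_coe] at h5
  haveI : Fact (Nat.Prime 2) := ⟨Nat.prime_two⟩
  obtain ⟨k, hk⟩ := IsPGroup.iff_card.1 (isPGroup_sq (M := M ⊓ Lgrp) fun a ha => by
    rw [(hMmem a ha.1).2.2, one_mul])
  rw [hcM, hk] at h
  rw [hk] at h5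
  have h1 : k ≤ 2 := by
    by_contra hk3
    have := Nat.pow_le_pow_right (show 2 > 0 by norm_num) (show 3 ≤ k by omega)
    omega
  interval_cases k <;> simp at h5

/-- No invariant totally singular subgroup of order eight. -/
theorem gap_five {W : Set Vec} (hq : ∀ x ∈ W, q0 x = 0) (hadd : ∀ x ∈ W, ∀ y ∈ W, xorV x y ∈ W)
    (hinv : ∀ g ∈ St, ∀ x ∈ W, g x ∈ W) (h5 : v5 ∈ W) (hom : omV v5 ∈ W) : W.ncard ≠ 8 := by
  classical
  intro h8
  obtain ⟨x, hx, hxL⟩ : ∃ x ∈ W, x ∉ ({(⟨0, by norm_num⟩ : Vec), v5, omV v5, xorV v5 (omV v5)} : Finset Vec) := by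
    by_contra hc
    push Not at hc
    have := Set.ncard_le_ncard (t := (({(⟨0, by norm_num⟩ : Vec), v5, omV v5, xorV v5 (omV v5)} : Finset Vec) : Set Vec))
      (fun x hx => Finset.mem_coe.2 (hc x hx)) (Finset.finite_toSet _)
    rw [Set.ncard_coe_finset, h8] at this
    have := this.trans Finset.card_le_four
    omega
  simp only [Finset.mem_insert, Finset.mem_singleton, not_or] at hxL
  have h := allBelow_spec _ _ gap_ok x x.2
  have hq5 : q0 5 = 0 := hq v5 h5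
  have hpol : polC x 5 = 0 := by
    show Nat.xor (q0 (xorV x v5)) (Nat.xor (q0 x) (q0 5)) = 0
    rw [hq _ (hadd x hx v5 h5), hq x hx, hq5]
    rfl
  simp only [Bool.or_eq_true, Bool.and_eq_true, List.any_eq_true, Bool.not_eq_true', ← Bool.not_eq_true,
    Nat.beq_eq, hq x hx, hpol, and_self, not_true, or_false, false_or] at h
  rcases h with ⟨l, hl, e⟩ | ⟨g, hg, h⟩
  · simp only [List.mem_cons, List.not_mem_nil, or_false] at hl
    rcases hl with rfl | rfl | rfl | rfl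
    exacts [hxL.1 (Fin.ext e.symm), hxL.2.1 (Fin.ext e.symm), hxL.2.2.1 (Fin.ext e.symm), hxL.2.2.2 (Fin.ext e.symm)]
  obtain ⟨hr, hm⟩ := pool_facts hg
  have hgx := hinv _ hm x hx
  rw [(hr x).1] at h
  rcases h with h | h
  · change Nat.xor (q0 (xorV x (toPerm 8 256 g x))) (Nat.xor (q0 x) (q0 (toPerm 8 256 g x))) = 1 at h
    rw [hq _ (hadd x hx _ hgx), hq x hx, hq _ hgx] at h
    exact absurd h (by decide)
  · obtain ⟨f, hf⟩ : ∃ f : Fin 8 → Vec, f = ![⟨0, by norm_num⟩, v5, omV v5, xorV v5 (omV v5), x, xorV v5 x,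
        xorV (omV v5) x, xorV (xorV v5 (omV v5)) x] := ⟨_, rfl⟩
    have hfW : ∀ i, f i ∈ W := fun i => by
      have h0 : (⟨0, by norm_num⟩ : Vec) ∈ W := by
        have := hadd x hx x hx
        rwa [show xorV x x = (⟨0, by norm_num⟩ : Vec) from Fin.ext (Nat.xor_self _)] at this
      fin_cases i <;> subst hf
      exacts [h0, h5, hom, hadd _ h5 _ hom, hx, hadd _ h5 _ hx, hadd _ hom _ hx, hadd _ (hadd _ h5 _ hom) _ hx]
    have hfinj : Function.Injective f := by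
      have key : ∀ x : Vec, x ≠ ⟨0, by norm_num⟩ → x ≠ v5 → x ≠ omV v5 → x ≠ xorV v5 (omV v5) →
          ([⟨0, by norm_num⟩, v5, omV v5, xorV v5 (omV v5), x, xorV v5 x,
            xorV (omV v5) x, xorV (xorV v5 (omV v5)) x] : List Vec).Nodup := by decide +kernel
      have hnd := key x hxL.1 hxL.2.1 hxL.2.2.1 hxL.2.2.2
      subst hf
      rw [← List.nodup_ofFn]
      exact hnd
    have hne : toPerm 8 256 g x ∉ Set.range f := by
      rintro ⟨i, hi⟩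
      refine h ⟨(toPerm 8 256 g x : ℕ), ?_, rfl⟩
      have hl : ∀ i, (f i : ℕ) ∈ spanFour 5 (omC 5) x 0 := by
        intro i
        subst hf
        fin_cases i <;> simp [spanFour, xorV, omV, v5]
      rw [← hi]
      exact hl i
    have hsub : insert (toPerm 8 256 g x) (Set.range f) ⊆ W := by
      rintro a (rfl | ⟨i, rfl⟩)
      exacts [hgx, hfW i]
    have := Set.ncard_le_ncard hsub (Set.toFinite _)
    rw [Set.ncard_insert_of_notMem hne (Set.toFinite _), Set.ncard_range_of_injective hfinj, h8] at this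
    simp at this

/-- The same at any singular vector. -/
theorem gap_line {n : Vec} (hn : Sing n) {W : Set Vec} (hq : ∀ x ∈ W, q0 x = 0)
    (hadd : ∀ x ∈ W, ∀ y ∈ W, xorV x y ∈ W) (hinv : ∀ g ∈ Lgrp, g n = n → ∀ x ∈ W, g x ∈ W) (hnW : n ∈ W)
    (hom : omV n ∈ W) : W.ncard ≠ 8 := by
  obtain ⟨γ, hγ, e⟩ := exists_to hn
  have h := gap_five (W := γ ⁻¹' W) (fun u hu => (lin_q hγ u).symm.trans (hq _ hu))
    (fun a ha b hb => show γ (xorV a b) ∈ W by rw [(linLike hγ).1]; exact hadd _ ha _ hb)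
    (fun g hg u hu => show γ (g u) ∈ W by
      have h := hinv (γ * g * γ⁻¹) (mul_mem (mul_mem hγ hg.1) (inv_mem hγ)) (by
        simp only [Equiv.Perm.mul_apply]; rw [← e, perm_inv_self, hg.2]) _ hu
      simpa using h)
    (show γ v5 ∈ W by rw [e]; exact hnW) (show γ (omV v5) ∈ W by rw [(linLike hγ).2.1, e]; exact hom)
  rwa [Set.ncard_preimage_of_injective_subset_range γ.injective (by simp)] at h

/-! ### The outer representatives on the vectors -/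

theorem repFix_spec {k : ℕ} (hk : k < 2) :
    (∀ v < 256, repC' k v < 256 ∧ repC' k (repC' k v) = v) ∧
    (∀ p < 45, singB (repC' k (repC p)) = true ∧ get 6 (repPts.getD k (0, 0)).1 p = ptIdx (repC' k (repC p))) ∧
    sift 8 256 linLevels (pack 8 (fun v => frC (repC' k v)) 256) = true ∧
    (∀ g < 4, validElt 8 256 (rcElt k g) = true ∧ sift 8 256 linLevels (rcElt k g).1 = true ∧
      ∀ v < 256, rcC k g v < 256 ∧ rcC k g (repC' k v) = repC' k (rcC k g v)) ∧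
    (if k = 0 then 16 else 8) ≤ (List.range 256).countP (fun x => Nat.beq (repC' k x) x && Nat.beq (q0 x) 0) ∧
    ∀ x < 256, repC' k x = x → (∃ y < 256, Nat.xor y (repC' k y) = x) ∧
      (q0 x = 0 → x = 0 ∨ (k = 1 ∧ x = 85) ∨ ∃ g < 4, ∃ h < 4, ∃ a < 256, ∃ b < 256,
        Nat.xor a (repC' k a) ≠ 0 ∧ Nat.xor b (repC' k b) ≠ 0 ∧ Nat.xor a (repC' k a) ≠ Nat.xor b (repC' k b) ∧
        polC a (Nat.xor b (repC' k b)) = 0 ∧
        Nat.xor a (repC' k a) ∈ spanFour 0 x (rcC k g x) (rcC k h x) ∧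
        Nat.xor b (repC' k b) ∈ spanFour 0 x (rcC k g x) (rcC k h x)) := by
  have hh : repFixOK k = true := by
    interval_cases k
    exacts [repFix_ok0, repFix_ok1]
  simp only [repFixOK, Bool.and_eq_true] at hh
  obtain ⟨⟨⟨⟨⟨h1, h2⟩, h3⟩, h4⟩, h5⟩, h6⟩ := hh
  refine ⟨fun v hv => ?_, fun p hp => ?_, h3, fun g hg => ?_, ?_, fun x hx hfix => ?_⟩
  · have h := allBelow_spec _ _ h1 v hv
    simp only [Bool.and_eq_true, Nat.blt_eq, Nat.beq_eq] at h
    exact h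
  · have h := allBelow_spec _ _ h2 p hp
    simp only [Bool.and_eq_true, Nat.beq_eq] at h
    exact h
  · have h := allBelow_spec _ _ h4 g hg
    simp only [Bool.and_eq_true] at h
    refine ⟨h.1.1, h.1.2, fun v hv => ?_⟩
    have h' := allBelow_spec _ _ h.2 v hv
    simp only [Bool.and_eq_true] at h'
    exact ⟨Nat.blt_eq.mp h'.1, Nat.eq_of_beq_eq_true h'.2⟩
  · interval_cases k
    exacts [Nat.le_of_ble_eq_true h5, Nat.le_of_ble_eq_true h5]
  · have h := allBelow_spec _ _ h6 x hx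
    simp only [show Nat.beq (repC' k x) x = true from Nat.beq_eq.mpr hfix, Bool.not_true, Bool.false_or,
      Bool.and_eq_true, List.any_eq_true, List.mem_range] at h
    obtain ⟨⟨y, hy, hye⟩, h⟩ := h
    refine ⟨⟨y, hy, Nat.eq_of_beq_eq_true hye⟩, fun hq => ?_⟩
    simp only [hq, Nat.beq_refl, Bool.not_true, Bool.false_or, Bool.or_eq_true, Bool.and_eq_true,
      List.any_eq_true] at h
    rcases h with (h | ⟨ha, hb⟩) | ⟨⟨w, g, hh, a, b⟩, -, h⟩
    · exact .inl (Nat.eq_of_beq_eq_true h)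
    · exact .inr (.inl ⟨Nat.eq_of_beq_eq_true ha, Nat.eq_of_beq_eq_true hb⟩)
    · right; right
      simp only [Bool.and_eq_true, List.any_eq_true, Bool.not_eq_true', ← Bool.not_eq_true] at h
      obtain ⟨⟨⟨⟨⟨⟨⟨⟨⟨⟨-, e1⟩, e2⟩, e3⟩, e4⟩, e5⟩, e6⟩, e7⟩, e8⟩, s, hs, e9⟩, s', hs', e10⟩ := h
      exact ⟨g, Nat.blt_eq.mp e1, hh, Nat.blt_eq.mp e2, a, Nat.blt_eq.mp e3, b, Nat.blt_eq.mp e4,
        fun e => e5 (Nat.beq_eq.mpr e), fun e => e6 (Nat.beq_eq.mpr e), fun e => e7 (Nat.beq_eq.mpr e),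
        Nat.eq_of_beq_eq_true e8, Nat.eq_of_beq_eq_true e9 ▸ hs, Nat.eq_of_beq_eq_true e10 ▸ hs'⟩

/-- A representative on the vectors. -/
def repV' (k : Fin 2) : Equiv.Perm Vec :=
  Function.Involutive.toPerm (fun v : Vec => ⟨repC' k v, ((repFix_spec k.2).1 v v.2).1⟩)
    fun v => Fin.ext ((repFix_spec k.2).1 v v.2).2

theorem repV_val (k : Fin 2) (v : Vec) : (repV' k v : ℕ) = repC' k v := rfl

theorem repV_mem (k : Fin 2) : repV' k ∈ Agrp := by
  refine Or.inr (mem_of_sift lin_cert _ (fun i => ?_) (repFix_spec k.2).2.2.1)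
  rw [get_pack 8 _ 256 i i.2]
  exact Nat.mod_eq_of_lt (frV (repV' k i)).2

theorem repV_xor (k : Fin 2) (a b : Vec) : repV' k (xorV a b) = xorV (repV' k a) (repV' k b) :=
  semi_xor (repV_mem k) a b

theorem aHom_rep (k : Fin 2) : aHom ⟨repV' k, repV_mem k⟩ = repP k := Equiv.ext fun p => Fin.ext (by
  rw [← aHom_apply, ← ((repP_facts k.2).1 p).1, ((repFix_spec k.2).2.1 p p.2).2]
  exact Nat.mod_eq_of_lt (sing_spec ((sing_iff (repV' k (repV p))).2 ((repFix_spec k.2).2.1 p p.2).1)).2.2.2)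

/-- An involution in the class of a representative, on the vectors. -/
theorem exists_rep {σ : Agrp} {k : Fin 2} (h : aHom σ ∈ repClass k) :
    ∃ γ ∈ Lgrp, σ.1 = γ * repV' k * γ⁻¹ := by
  obtain ⟨x, hx, e⟩ := h
  obtain ⟨γ, rfl⟩ := exists_lin hx
  refine ⟨γ.1, γ.2, congrArg Subtype.val (aHom_injective
    (a₂ := ⟨γ.1, lin_le γ.2⟩ * ⟨repV' k, repV_mem k⟩ * ⟨γ.1, lin_le γ.2⟩⁻¹) ?_)⟩
  rw [map_mul, map_mul, map_inv, aHom_rep, aHom_lin (g := ⟨γ.1, lin_le γ.2⟩) γ.2, e]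

theorem rep_fix {σ γ : Equiv.Perm Vec} {k : Fin 2} (hγ : γ ∈ Lgrp) (hσ : σ = γ * repV' k * γ⁻¹) {x : Vec}
    (hx : σ x = x) : ∃ y, xorV y (σ y) = x := by
  have hu : repC' k (γ⁻¹ x : Vec) = (γ⁻¹ x : Vec) := by
    rw [← repV_val]
    refine congrArg Fin.val ?_
    conv_rhs => rw [← hx, hσ, Equiv.Perm.mul_apply, Equiv.Perm.mul_apply, perm_inv_self]
  obtain ⟨⟨y, hy, hye⟩, -⟩ := (repFix_spec k.2).2.2.2.2.2 _ (γ⁻¹ x).2 hu
  refine ⟨γ ⟨y, hy⟩, ?_⟩
  rw [hσ, Equiv.Perm.mul_apply, Equiv.Perm.mul_apply, perm_inv_self, ← (linLike hγ).1]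
  conv_rhs => rw [← perm_self_inv γ x]
  refine congrArg γ (Fin.ext ?_)
  show Nat.xor y (repV' k ⟨y, hy⟩ : ℕ) = _
  rw [repV_val]
  exact hye

theorem rep_count {σ γ : Equiv.Perm Vec} {k : Fin 2} (hγ : γ ∈ Lgrp) (hσ : σ = γ * repV' k * γ⁻¹) :
    (if (k : ℕ) = 0 then 16 else 8) ≤ {x : Vec | σ x = x ∧ q0 x = 0}.ncard := by
  classical
  have h : (if (k : ℕ) = 0 then 16 else 8) ≤ (Finset.univ.filter fun x : Vec => repV' k x = x ∧ q0 x = 0).card := by
    refine le_trans (repFix_spec k.2).2.2.2.2.1 (le_of_eq ?_)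
    rw [List.countP_eq_length_filter, ← List.toFinset_card_of_nodup (List.nodup_range.filter _),
      ← Finset.card_map Fin.valEmbedding]
    refine congrArg Finset.card (Finset.ext fun i => ?_)
    simp only [List.mem_toFinset, List.mem_filter, List.mem_range, Bool.and_eq_true, Nat.beq_eq, Finset.mem_map,
      Finset.mem_filter, Finset.mem_univ, true_and, Fin.valEmbedding_apply]
    constructor
    · rintro ⟨hi, e, e'⟩
      exact ⟨⟨i, hi⟩, ⟨Fin.ext ((repV_val k _).trans e), e'⟩, rfl⟩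
    · rintro ⟨p, ⟨hp, hq⟩, rfl⟩
      exact ⟨p.2, (repV_val k p).symm.trans (congrArg Fin.val hp), hq⟩
  refine h.trans ?_
  rw [← Set.ncard_coe_finset]
  refine Set.ncard_le_ncard_of_injOn γ (fun x hx => ?_) γ.injective.injOn (Set.toFinite _)
  simp only [Finset.coe_filter, Finset.mem_univ, true_and, Set.mem_ofPred_eq] at hx
  refine ⟨?_, by rw [lin_q hγ]; exact hx.2⟩
  show σ (γ x) = γ x
  rw [hσ, Equiv.Perm.mul_apply, Equiv.Perm.mul_apply, perm_inv_self, hx.1]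

theorem rep_wit {σ γ : Equiv.Perm Vec} {k : Fin 2} (hγ : γ ∈ Lgrp) (hσ : σ = γ * repV' k * γ⁻¹) {W : Set Vec}
    (hadd : ∀ x ∈ W, ∀ y ∈ W, xorV x y ∈ W) (hfix : ∀ x ∈ W, σ x = x) (hq : ∀ x ∈ W, q0 x = 0)
    (hinv : ∀ g ∈ Lgrp, g * σ = σ * g → ∀ x ∈ W, g x ∈ W) (hne : ∃ x ∈ W, (x : ℕ) ≠ 0)
    (hbig : (k : ℕ) = 0 ∨ 3 ≤ W.ncard) :
    ∃ a b, xorV a (σ a) ∈ W ∧ xorV b (σ b) ∈ W ∧ (xorV a (σ a) : ℕ) ≠ 0 ∧ (xorV b (σ b) : ℕ) ≠ 0 ∧
      xorV a (σ a) ≠ xorV b (σ b) ∧ polC a (xorV b (σ b)) = 0 := by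
  classical
  have hzero : γ ⟨0, by norm_num⟩ = ⟨0, by norm_num⟩ := lin_zero hγ
  obtain ⟨x, hx, hx0, hx85⟩ : ∃ x ∈ W, (x : ℕ) ≠ 0 ∧ ((k : ℕ) = 1 → (γ⁻¹ x : Vec) ≠ (⟨85, by norm_num⟩ : Vec)) := by
    rcases hbig with h | h
    · obtain ⟨x, hx, hx0⟩ := hne
      exact ⟨x, hx, hx0, fun h1 => by omega⟩
    · by_contra hc
      push Not at hc
      have := Set.ncard_le_ncard (s := W) (t := (({⟨0, by norm_num⟩, γ ⟨85, by norm_num⟩} : Finset Vec) : Set Vec))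
        (fun x hx => by
          by_cases hx0 : (x : ℕ) = 0
          · simp [show x = (⟨0, by norm_num⟩ : Vec) from Fin.ext hx0]
          · obtain ⟨-, e⟩ := hc x hx hx0
            simp [← e]) (Finset.finite_toSet _)
      rw [Set.ncard_coe_finset] at this
      have := this.trans Finset.card_le_two
      omega
  set u := γ⁻¹ x with hu
  have hγu : γ u = x := perm_self_inv γ x
  have hfu : repV' k u = u := by
    have := hfix x hx
    rw [hσ, Equiv.Perm.mul_apply, Equiv.Perm.mul_apply, ← hu, ← hγu] at this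
    exact γ.injective this
  have hu0 : (u : ℕ) ≠ 0 := fun h => hx0 (by
    rw [← hγu, show u = ⟨0, by norm_num⟩ from Fin.ext h, hzero])
  have hqu : q0 u = 0 := by rw [← lin_q hγ, hγu]; exact hq x hx
  obtain ⟨-, h⟩ := (repFix_spec k.2).2.2.2.2.2 u u.2 ((repV_val k u).symm.trans (congrArg Fin.val hfu))
  rcases h hqu with h | ⟨hk1, h⟩ | ⟨g, hg, h', hh', a, ha, b, hb, n1, n2, n3, hp, m1, m2⟩
  · exact absurd h hu0
  · exact absurd (Fin.ext h) (hx85 hk1)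
  have hrc : ∀ j < 4, toPerm 8 256 (rcElt k j) ∈ Lgrp ∧
      toPerm 8 256 (rcElt k j) * repV' k = repV' k * toPerm 8 256 (rcElt k j) ∧
      ∀ v : Vec, (toPerm 8 256 (rcElt k j) v : ℕ) = rcC k j v := by
    intro j hj
    obtain ⟨hv, hs, hc⟩ := (repFix_spec k.2).2.2.2.1 j hj
    have hval : ∀ v : Vec, (toPerm 8 256 (rcElt k j) v : ℕ) = rcC k j v := fun v => by
      rw [← (rep_toPerm hv v).1]
      show get 8 (pack 8 (rcC k j) 256) v = _
      rw [get_pack 8 _ 256 v v.2]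
      exact Nat.mod_eq_of_lt (hc v v.2).1
    refine ⟨cert_mem lin_cert hv hs, Equiv.ext fun v => Fin.ext ?_, hval⟩
    simp only [Equiv.Perm.mul_apply, hval, repV_val]
    exact (hc v v.2).2
  have hW : ∀ j < 4, γ (toPerm 8 256 (rcElt k j) u) ∈ W := fun j hj => by
    obtain ⟨hm, hc, -⟩ := hrc j hj
    have := hinv (γ * toPerm 8 256 (rcElt k j) * γ⁻¹) (mul_mem (mul_mem hγ hm) (inv_mem hγ)) (by
      rw [hσ, show γ * toPerm 8 256 (rcElt k j) * γ⁻¹ * (γ * repV' k * γ⁻¹) =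
        γ * (toPerm 8 256 (rcElt k j) * repV' k) * γ⁻¹ from by group, hc]
      group) x hx
    rwa [Equiv.Perm.mul_apply, Equiv.Perm.mul_apply, ← hu] at this
  have hmem : ∀ n : ℕ, n ∈ spanFour 0 u (rcC k g u) (rcC k h' u) → ∀ hn : n < 256, γ ⟨n, hn⟩ ∈ W := by
    intro n hn hlt
    obtain ⟨y, hy, hye⟩ : ∃ y : Vec, γ y ∈ W ∧ (y : ℕ) = n := by
      rw [← (hrc g hg).2.2 u, ← (hrc h' hh').2.2 u] at hn
      have hzero' : γ ⟨0, by norm_num⟩ ∈ W := by
        rw [hzero]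
        have := hadd x hx x hx
        rwa [show xorV x x = (⟨0, by norm_num⟩ : Vec) from Fin.ext (Nat.xor_self _)] at this
      have W2 : ∀ {p q : Vec}, γ p ∈ W → γ q ∈ W → γ (xorV p q) ∈ W := fun hp hq => by
        rw [(linLike hγ).1]; exact hadd _ hp _ hq
      have hx' : γ u ∈ W := hγu.symm ▸ hx
      have hgW := hW g hg
      have hkW := hW h' hh'
      simp only [spanFour, List.mem_cons, List.not_mem_nil, or_false] at hn
      rcases hn with e | e | e | e | e | e | e | e | e | e | e | e | e | e | e | e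
      exacts [⟨_, hzero', e.symm⟩, ⟨_, hzero', e.symm⟩, ⟨_, hx', e.symm⟩, ⟨_, W2 hzero' hx', e.symm⟩,
        ⟨_, hgW, e.symm⟩, ⟨_, W2 hzero' hgW, e.symm⟩, ⟨_, W2 hx' hgW, e.symm⟩, ⟨_, W2 (W2 hzero' hx') hgW, e.symm⟩,
        ⟨_, hkW, e.symm⟩, ⟨_, W2 hzero' hkW, e.symm⟩, ⟨_, W2 hx' hkW, e.symm⟩, ⟨_, W2 (W2 hzero' hx') hkW, e.symm⟩,
        ⟨_, W2 hgW hkW, e.symm⟩, ⟨_, W2 (W2 hzero' hgW) hkW, e.symm⟩, ⟨_, W2 (W2 hx' hgW) hkW, e.symm⟩,
        ⟨_, W2 (W2 (W2 hzero' hx') hgW) hkW, e.symm⟩]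
    rwa [show (⟨n, hlt⟩ : Vec) = y from Fin.ext hye.symm]
  have hcomm : ∀ n : Vec, xorV (γ n) (σ (γ n)) = γ (xorV n (repV' k n)) := fun n => by
    rw [hσ, Equiv.Perm.mul_apply, Equiv.Perm.mul_apply, perm_inv_self, (linLike hγ).1]
  have hval : ∀ {n : ℕ} (hn : n < 256), (xorV ⟨n, hn⟩ (repV' k ⟨n, hn⟩) : ℕ) = Nat.xor n (repC' k n) := fun hn =>
    congrArg (Nat.xor _) (repV_val k _)
  have hne' : ∀ {n : Vec}, (n : ℕ) ≠ 0 → (γ n : ℕ) ≠ 0 := fun {n} hn e => hn (by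
    have : γ n = γ ⟨0, by norm_num⟩ := by rw [hzero]; exact Fin.ext e
    exact congrArg Fin.val (γ.injective this))
  refine ⟨γ ⟨a, ha⟩, γ ⟨b, hb⟩, ?_, ?_, ?_, ?_, ?_, ?_⟩
  · rw [hcomm]; exact hmem _ (hval ha ▸ m1) (xorV _ _).2
  · rw [hcomm]; exact hmem _ (hval hb ▸ m2) (xorV _ _).2
  · rw [hcomm]; exact hne' (hval ha ▸ n1)
  · rw [hcomm]; exact hne' (hval hb ▸ n2)
  · rw [hcomm, hcomm]
    intro e
    exact n3 ((hval ha).symm.trans ((congrArg Fin.val (γ.injective e)).trans (hval hb)))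
  · rw [hcomm, lin_pol hγ, hval hb]
    exact hp

/-! ### Elementary subgroups containing the odd involution -/

/-- The images of a permutation of the points. -/
def Fw (c : ℕ) (σ : Equiv.Perm Pt) : Prop := ∀ i : Pt, get 6 c i = (σ i : ℕ)

theorem fw_comp {a b : ℕ} {σ τ : Equiv.Perm Pt} (ha : Fw a σ) (hb : Fw b τ) : Fw (comp 6 45 a b) (σ * τ) :=
  fun i => by rw [get_comp 6 45 _ _ _ i.2, hb i, ha (τ i)]; rfl

theorem fw_one : Fw (idCode 6 45) 1 := fun i => get_idCode 6 45 i (by norm_num) i.2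

theorem fw_canon {a : ℕ} {σ : Equiv.Perm Pt} (ha : Fw a σ) : Fw (canon a) σ := by
  have := fw_comp ha fw_one
  rwa [mul_one] at this

theorem fw_unique {a : ℕ} {σ τ : Equiv.Perm Pt} (ha : Fw a σ) (hb : Fw a τ) : σ = τ :=
  Equiv.ext fun i => Fin.ext ((ha i).symm.trans (hb i))

theorem fw_code {a b : ℕ} {σ : Equiv.Perm Pt} (ha : Fw a σ) (hb : Fw b σ) : canon a = canon b :=
  pack_congr fun i hi => by
    rw [get_idCode 6 45 i (by norm_num) hi, ha ⟨i, hi⟩, hb ⟨i, hi⟩]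

theorem canon_canon {a : ℕ} {σ : Equiv.Perm Pt} (ha : Fw a σ) : canon (canon a) = canon a :=
  fw_code (fw_canon ha) ha

theorem fw_good {a : ℕ} {σ : Equiv.Perm Pt} (ha : Fw a σ)
    (h : (Nat.beq (nfix a) 5 || Nat.beq (nfix a) 15) = true) : GoodP σ := by
  have e : {p | σ p = p}.ncard = nfix a := ncard_eq_countP _ _ fun p => by
    rw [Nat.beq_eq, ha p]
    exact Fin.ext_iff
  simp only [Bool.or_eq_true, Nat.beq_eq] at h
  rw [GoodP, e]
  exact h

/-- The second representative, on the points. -/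
theorem fw_rep : Fw (repPts.getD 1 (0, 0)).1 (repP 1) := fun i => ((repP_facts (k := 1) (by norm_num)).1 i).1

theorem cenE_spec {x : Equiv.Perm Pt} (hx : x ∈ AGrp) (hc : x * repP 1 = repP 1 * x) :
    ∃ i < 96, Fw (cenE i) x := by
  obtain ⟨-, hr2, hrA, hrG, -⟩ := repP_facts (k := 1) (by norm_num)
  have hlen : cenList.length = 48 := by decide +kernel
  have key : ∀ y ∈ Grp, y * repP 1 = repP 1 * y → ∃ i < 48, Fw (cenList.getD i (0, 0)).1 y := by
    intro y hy hyc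
    obtain ⟨hgood, he⟩ := cert_good pt_cert
    have hps : y ∈ prodSet (interp 6 45 ptLevels) := (J2.cert_prodSet pt_cert y).1 hy
    have hb : ∀ l ∈ ptLevels, l.1 < 45 := by decide +kernel
    obtain ⟨e, he, hf⟩ := CentAut.centAll_spec (w := 6) (n := 45) (c := (repPts.getD 1 (0, 0)).1) (C := repP 1)
      fw_rep (cs := [(repPts.getD 1 (0, 0)).1]) (cl := cenList.map Prod.fst)
      (fun q hq => by rw [List.mem_singleton.1 hq]; exact ⟨_, fw_rep, fun g h => h⟩)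
      ptLevels hgood (J2.cert_allRep pt_cert) hb [] [] (by simp) (by simp) cen_search (by simp) y hps
      (by simpa using hyc)
    obtain ⟨p, hp, rfl⟩ := List.mem_map.1 he
    obtain ⟨i, hi, rfl⟩ := List.getElem_of_mem hp
    refine ⟨i, hlen ▸ hi, fun v => ?_⟩
    rw [List.getD_eq_getElem _ _ hi]
    have h2 := hf v
    simpa using h2
  by_cases hG : x ∈ Grp
  · obtain ⟨i, hi, h⟩ := key x hG hc
    refine ⟨i, by omega, ?_⟩
    rw [cenE, show Nat.blt i 48 = true from Nat.blt_eq.mpr hi, cond_true]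
    exact fw_canon h
  · have h1 : repP 1 * x ∈ Grp := mul_mem_outer hrA hx hrG hG
    obtain ⟨i, hi, h⟩ := key _ h1 (by rw [mul_assoc, hc, ← mul_assoc, hr2, one_mul])
    refine ⟨i + 48, by omega, ?_⟩
    rw [cenE, show Nat.blt (i + 48) 48 = false from by
      rw [← Bool.not_eq_true, Nat.blt_eq]; omega, cond_false, Nat.add_sub_cancel]
    have := fw_canon (fw_comp fw_rep h)
    rwa [← mul_assoc, hr2, one_mul] at this

theorem odd_eight {M : Subgroup (Equiv.Perm Pt)} (hM : M ≤ AGrp) (hsq : ∀ a ∈ M, a * a = 1)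
    (hr : repP 1 ∈ M) (h : 16 ≤ Nat.card M ∨
      (8 ≤ Nat.card M ∧ ∀ x ∈ AGrp, x * repP 1 = repP 1 * x → ∀ a ∈ M, x * a * x⁻¹ ∈ M)) :
    ∃ a ∈ M, GoodP a ∧ GoodP (a * repP 1) := by
  classical
  have hcomm : ∀ a ∈ M, ∀ b ∈ M, a * b = b * a := fun a ha b hb => by
    have h1 := hsq _ (mul_mem ha hb)
    rw [← inv_eq_of_mul_eq_one_right h1, mul_inv_rev, inv_eq_of_mul_eq_one_right (hsq a ha),
      inv_eq_of_mul_eq_one_right (hsq b hb)]
  set r := canon (repPts.getD 1 (0, 0)).1 with hr_def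
  set one := canon (idCode 6 45) with hone_def
  have fr' : Fw r (repP 1) := fw_canon fw_rep
  have f1 : Fw one 1 := fw_canon fw_one
  have code : ∀ x ∈ M, ∃ c ∈ cenInv.map cenE, Fw c x := fun x hx => by
    obtain ⟨i, hi, hf⟩ := cenE_spec (hM hx) (hcomm x hx _ hr)
    refine ⟨_, List.mem_map.2 ⟨i, List.mem_filter.2 ⟨List.mem_range.2 hi, Nat.beq_eq.mpr ?_⟩, rfl⟩, hf⟩
    refine fw_code (fw_comp hf hf) ?_
    rw [hsq x hx]
    exact fw_one
  have pair : ∀ {c : ℕ} {x : Equiv.Perm Pt}, Fw c x → x ∈ M → pairB c = true →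
      ∃ a ∈ M, GoodP a ∧ GoodP (a * repP 1) := fun {c x} hf hx hp => by
    simp only [pairB, Bool.and_eq_true] at hp
    exact ⟨x, hx, fw_good hf hp.1, fw_good (fw_comp hf fw_rep) hp.2⟩
  have hcan : ∀ {c : ℕ}, c ∈ cenInv.map cenE → canon c = c := fun hc => by
    have key : (cenInv.map cenE).all (fun c => Nat.beq (canon c) c) = true := by decide +kernel
    exact Nat.eq_of_beq_eq_true (List.all_eq_true.1 key _ hc)
  have inv_code : ∀ {c : ℕ} {x : Equiv.Perm Pt}, c ∈ cenInv.map cenE → Fw c x → ∀ {d : ℕ}, Fw d x → c = canon d :=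
    fun hc hf _ hd => (hcan hc).symm.trans (fw_code hf hd)
  have hcard8 : 8 ≤ Nat.card M := by rcases h with h | h <;> omega
  have big : ∀ S : Finset (Equiv.Perm Pt), S.card < Nat.card M → ∃ x ∈ M, x ∉ S := fun S hS => by
    by_contra hc
    push Not at hc
    have := Set.ncard_le_ncard (s := (M : Set (Equiv.Perm Pt))) (t := (S : Set (Equiv.Perm Pt)))
      (fun x hx => Finset.mem_coe.2 (hc x hx)) (Finset.finite_toSet _)
    rw [Set.ncard_coe_finset, ← Nat.card_coe_set_eq] at this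
    simp only [SetLike.coe_sort_coe] at this
    omega
  obtain ⟨a, ha, haS⟩ := big {1, repP 1} (by have := Finset.card_le_two (a := (1 : Equiv.Perm Pt)) (b := repP 1); omega)
  obtain ⟨b, hb, hbS⟩ := big {1, repP 1, a, a * repP 1} (by
    have := Finset.card_le_four (a := (1 : Equiv.Perm Pt)) (b := repP 1) (c := a) (d := a * repP 1); omega)
  simp only [Finset.mem_insert, Finset.mem_singleton, not_or] at haS hbS
  obtain ⟨ca, hca, fa⟩ := code a ha
  obtain ⟨cb, hcb, fb⟩ := code b hb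
  have comm_code : ∀ {u v : ℕ} {x y : Equiv.Perm Pt}, Fw u x → Fw v y → x * y = y * x → commB u v = true :=
    fun {u v x y} hu hv e => Nat.beq_eq.mpr (fw_code (fw_comp hu hv) (e ▸ fw_comp hv hu))
  have h8 := List.all_eq_true.1 eight_ok ca hca
  simp only [Bool.or_eq_true, Nat.beq_eq] at h8
  rcases h8 with (e | e) | h8
  · exact absurd (fw_unique fa (e ▸ f1)) haS.1
  · exact absurd (fw_unique fa (e ▸ fr')) haS.2
  have hb8 := List.all_eq_true.1 h8 cb hcb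
  simp only [Bool.or_eq_true, List.any_eq_true, Bool.not_eq_true', comm_code fa fb (hcomm a ha b hb),
    Bool.true_eq_false, or_false, Nat.beq_eq] at hb8
  have four : ∀ u ∈ ([one, r, ca, canon (comp 6 45 ca r)] : List ℕ), ∃ y : Equiv.Perm Pt,
      Fw u y ∧ y ∈ ({1, repP 1, a, a * repP 1} : Finset (Equiv.Perm Pt)) := by
    intro u hu
    simp only [List.mem_cons, List.not_mem_nil, or_false] at hu
    rcases hu with rfl | rfl | rfl | rfl
    exacts [⟨_, f1, by simp⟩, ⟨_, fr', by simp⟩, ⟨_, fa, by simp⟩, ⟨_, fw_canon (fw_comp fa fr'), by simp⟩]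
  have eight_mem : ∀ u ∈ eight ca cb, ∃ y : Equiv.Perm Pt, Fw u y ∧ y ∈ M ∧ y ∈
      ({1, repP 1, a, a * repP 1, b, b * repP 1, a * b, a * b * repP 1} : Finset (Equiv.Perm Pt)) := by
    intro u hu
    simp only [eight, List.mem_cons, List.not_mem_nil, or_false] at hu
    rcases hu with rfl | rfl | rfl | rfl | rfl | rfl | rfl | rfl
    exacts [⟨_, f1, one_mem M, by simp⟩, ⟨_, fr', hr, by simp⟩, ⟨_, fa, ha, by simp⟩,
      ⟨_, fw_canon (fw_comp fa fr'), mul_mem ha hr, by simp⟩, ⟨_, fb, hb, by simp⟩,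
      ⟨_, fw_canon (fw_comp fb fr'), mul_mem hb hr, by simp⟩, ⟨_, fw_canon (fw_comp fa fb), mul_mem ha hb, by simp⟩,
      ⟨_, fw_canon (fw_comp (fw_comp fa fb) fr'), mul_mem (mul_mem ha hb) hr, by simp⟩]
  have ext : ∀ {c : ℕ} {x : Equiv.Perm Pt}, Fw c x → x ∈ M → extB (eight ca cb) c = true →
      ∃ a ∈ M, GoodP a ∧ GoodP (a * repP 1) := fun {c x} hf hx he => by
    obtain ⟨u, hu, hp⟩ := List.any_eq_true.1 he
    obtain ⟨y, hy, hyM, -⟩ := eight_mem u hu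
    exact pair (fw_comp hy hf) (mul_mem hyM hx) hp
  rcases hb8 with ⟨u, hu, e⟩ | hb8
  · exfalso
    obtain ⟨y, hy, hyS⟩ := four u hu
    rw [fw_unique fb (e ▸ hy)] at hbS
    simp only [Finset.mem_insert, Finset.mem_singleton] at hyS
    tauto
  simp only [Bool.and_eq_true, List.any_eq_true, List.all_eq_true] at hb8
  rcases hb8 with ⟨u, hu, hp⟩ | ⟨⟨g, hg, x, hx, hx'⟩, hall⟩
  · obtain ⟨y, hy, hyM, -⟩ := eight_mem u hu
    exact pair hy hyM hp
  rcases h with h16 | ⟨-, hnor⟩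
  · obtain ⟨c, hc, hcS⟩ := big {1, repP 1, a, a * repP 1, b, b * repP 1, a * b, a * b * repP 1} (by
      refine lt_of_le_of_lt (b := 8) ?_ (by omega)
      repeat' refine le_trans (Finset.card_insert_le _ _) (Nat.succ_le_succ ?_)
      rw [Finset.card_singleton])
    obtain ⟨cc, hcc, fc⟩ := code c hc
    have h' := hall cc hcc
    simp only [Bool.or_eq_true, List.any_eq_true, Bool.not_eq_true', comm_code fa fc (hcomm a ha c hc),
      comm_code fb fc (hcomm b hb c hc), Bool.true_eq_false, or_false, Nat.beq_eq] at h'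
    rcases h' with ⟨u, hu, e⟩ | h'
    · obtain ⟨y, hy, -, hyS⟩ := eight_mem u hu
      exact absurd hyS (fw_unique fc (e ▸ hy) ▸ hcS)
    · exact ext fc hc h'
  · have hgen : toPerm 6 45 g ∈ cenK 1 := by
      rw [cenK, if_neg (by norm_num)]
      exact Subgroup.subset_closure (List.mem_map.2 ⟨g, hg, rfl⟩)
    obtain ⟨hle, hcr, -⟩ := cenK_facts (k := 1) (by norm_num)
    have hgv : Rep 6 g (toPerm 6 45 g) := by
      have hc := cen1_cert
      simp only [checkCert, Bool.and_eq_true, List.all_eq_true] at hc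
      exact rep_toPerm (hc.1.1.1.1.2 g hg)
    have hfw : ∀ y ∈ M, ∀ {v : ℕ}, Fw v y →
        Fw (canon (comp 6 45 (comp 6 45 g.1 v) g.2)) (toPerm 6 45 g * y * (toPerm 6 45 g)⁻¹) := fun y _ v hv =>
      fw_canon (fw_comp (fw_comp (fun i => (hgv i).1) hv) (fun i => (hgv i).2))
    obtain ⟨y, hyM, hy⟩ : ∃ y ∈ M, Fw x y := by
      simp only [List.mem_cons, List.not_mem_nil, or_false] at hx
      rcases hx with rfl | rfl
      exacts [⟨a, ha, fa⟩, ⟨b, hb, fb⟩]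
    have hy' := hnor _ (grp_le (hle hgen)) (hcr _ hgen) y hyM
    have hf := hfw y hyM hy
    simp only [Bool.or_eq_true, Bool.not_eq_true', comm_code hf fa (hcomm _ hy' a ha),
      comm_code hf fb (hcomm _ hy' b hb), Bool.true_eq_false, false_or] at hx'
    exact ext hf hy' hx'

/-- The odd involution in an elementary subgroup: a good pair. -/
theorem odd_pair {M : Subgroup (Equiv.Perm Pt)} (hM : M ≤ AGrp) (hsq : ∀ a ∈ M, a * a = 1) {τ : Equiv.Perm Pt}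
    (hτ : τ ∈ repClass 1) (hτM : τ ∈ M) (h : 16 ≤ Nat.card M ∨
      (8 ≤ Nat.card M ∧ ∀ x ∈ AGrp, x * τ = τ * x → ∀ a ∈ M, x * a * x⁻¹ ∈ M)) :
    ∃ a ∈ M, GoodP a ∧ GoodP (a * τ) := by
  obtain ⟨γ, hγ, rfl⟩ := hτ
  have hA := grp_le hγ
  obtain ⟨a, ⟨x, hx, rfl⟩, h1, h2⟩ := odd_eight (M := M.map (MulAut.conj γ⁻¹).toMonoidHom)
    (by
      rintro _ ⟨a, ha, rfl⟩
      exact mul_mem (mul_mem (inv_mem hA) (hM ha)) (inv_mem (inv_mem hA)))
    (by
      rintro _ ⟨a, ha, rfl⟩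
      show γ⁻¹ * a * γ⁻¹⁻¹ * (γ⁻¹ * a * γ⁻¹⁻¹) = 1
      rw [show γ⁻¹ * a * γ⁻¹⁻¹ * (γ⁻¹ * a * γ⁻¹⁻¹) = γ⁻¹ * (a * a) * γ⁻¹⁻¹ by group, hsq a ha, mul_one,
        mul_inv_cancel])
    ⟨_, hτM, show γ⁻¹ * (γ * repP 1 * γ⁻¹) * γ⁻¹⁻¹ = repP 1 by group⟩
    (by
      rw [conj_map_card]
      refine h.imp id fun ⟨h8, hn⟩ => ⟨h8, ?_⟩
      rintro x hx hxc _ ⟨a, ha, rfl⟩
      refine ⟨γ * x * γ⁻¹ * a * (γ * x * γ⁻¹)⁻¹, hn _ (mul_mem (mul_mem hA hx) (inv_mem hA)) ?_ a ha, ?_⟩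
      · rw [show γ * x * γ⁻¹ * (γ * repP 1 * γ⁻¹) = γ * (x * repP 1) * γ⁻¹ by group, hxc]
        group
      · show γ⁻¹ * (γ * x * γ⁻¹ * a * (γ * x * γ⁻¹)⁻¹) * γ⁻¹⁻¹ = x * (γ⁻¹ * a * γ⁻¹⁻¹) * x⁻¹
        group)
  refine ⟨x, hx, ?_, ?_⟩
  · have e : γ * (γ⁻¹ * x * γ⁻¹⁻¹) * γ⁻¹ = x := by group
    rw [GoodP, ← e, nfix_conj]
    exact h1
  · have e : γ * (γ⁻¹ * x * γ⁻¹⁻¹ * repP 1) * γ⁻¹ = x * (γ * repP 1 * γ⁻¹) := by group
    rw [GoodP, ← e, nfix_conj]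
    exact h2

end Cfsg.Agent.U62Aut
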