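import Cfsg.Agent.Lib.U62Aut.Local
import Cfsg.Agent.Lib.U62Aut.Model.Facts
import Cfsg.Agent.Lib.U62Aut.Model.Crd
import Cfsg.Agent.Lib.U62Rec.Model.Bridge

/-!
The local hypotheses at an involution whose centralizer has an extraspecial 2-core of order `2^9` with
quotient the semilinear group.
-/

set_option autoImplicit false
set_option linter.unusedSectionVars false
set_option linter.style.haveILetI false
set_option maxRecDepth 20000

namespace Cfsg.Agent.U62Aut

open Subgroup LargeExtra U62Rec.Model Cfsg.Agent.PermCert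
open scoped commutatorElement

/-- The facts about the quotient. -/
noncomputable def geo : Geo Pt where
  adj := adjP
  tr := tvP
  invs := invsA
  invs_card := invsA_card
  good := GoodP
  good_one := by
    intro h
    have e : {p : Pt | (1 : Equiv.Perm Pt) p = p} = Set.univ := Set.eq_univ_of_forall fun p => rfl
    rw [GoodP, e, Set.ncard_univ, Nat.card_eq_fintype_card, Fintype.card_fin] at h
    omega
  good_tr := fun p h => by
    rw [GoodP, tv_nfix] at h
    omega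
  fix_one := fun p s h => by
    have hh := far_ok
    simp only [farOK] at hh
    have h1 := allBelow_spec _ _ hh p p.2
    simp only [Bool.and_eq_true] at h1
    have h2 := allBelow_spec _ _ h1.1 s s.2
    simp only [Bool.or_eq_true, Bool.not_eq_true', ← Bool.not_eq_true, Nat.beq_eq] at h2
    rcases h2 with (h2 | h2) | h2
    · exact absurd ((rep_tv p s).1.trans (congrArg Fin.val h)) h2
    · exact Or.inl (Fin.ext h2)
    · exact Or.inr h2
  fix_two := fun p q hpq => by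
    have hh := far_ok
    simp only [farOK] at hh
    have h1 := allBelow_spec _ _ hh p p.2
    simp only [Bool.and_eq_true] at h1
    have h2 := allBelow_spec _ _ h1.2 q q.2
    simp only [show adjB p q = true from hpq, Bool.not_true, Bool.false_or, Bool.and_eq_true, Nat.ble_eq] at h2
    refine le_trans (le_of_eq ?_) h2.1.1
    exact ncard_eq_countP _ _ fun s => by
      rw [Nat.beq_eq, show comp 6 45 (tvElt p).1 (tvElt q).1 = (PermCert.mul 6 45 (tvElt p) (tvElt q)).1 from rfl,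
        (rep_mul (rep_tv p) (rep_tv q) s).1, Fin.ext_iff]
  third := fun p q hpq => by
    have hh := far_ok
    simp only [farOK] at hh
    have h1 := allBelow_spec _ _ hh p p.2
    simp only [Bool.and_eq_true] at h1
    have h2 := allBelow_spec _ _ h1.2 q q.2
    simp only [show adjB p q = true from hpq, Bool.not_true, Bool.false_or, Bool.and_eq_true, Nat.ble_eq,
      List.any_eq_true, List.mem_range] at h2
    obtain ⟨r, hr, hr1, hr2⟩ := h2.1.2
    exact ⟨⟨r, hr⟩, hr1, hr2⟩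
  fix_three := fun p q r hpq hpr hqr s h => by
    have hh := far_ok
    simp only [farOK] at hh
    have h1 := allBelow_spec _ _ hh p p.2
    simp only [Bool.and_eq_true] at h1
    have h2 := allBelow_spec _ _ h1.2 q q.2
    simp only [show adjB p q = true from hpq, Bool.not_true, Bool.false_or, Bool.and_eq_true] at h2
    have h3 := allBelow_spec _ _ h2.2 r r.2
    simp only [show adjB p r = true from hpr, show adjB q r = true from hqr, Bool.and_self, Bool.not_true,
      Bool.false_or] at h3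
    have h4 := allBelow_spec _ _ h3 s s.2
    simp only [Bool.or_eq_true, Bool.not_eq_true', ← Bool.not_eq_true, Nat.beq_eq] at h4
    rcases h4 with (h4 | h4) | h4
    · exact absurd ((rep_mul (rep_mul (rep_tv p) (rep_tv q)) (rep_tv r) s).1.trans (congrArg Fin.val h)) h4
    · exact Or.inl (Fin.ext h4)
    · exact Or.inr h4
  card_P := Fintype.card_fin 45
  adj_symm := fun _ _ => adj_symm
  adj_irrefl := adj_irrefl
  adj_card := adj_card
  common := common
  connected := connected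
  tr_sq := tvP_sq
  tr_ne_one := tvP_ne_one
  tr_inj := tvP_inj
  tr_fix := fun _ _ => tvP_fix
  tr_comm := fun _ _ h => tv_comm h
  tr_three := fun _ _ => tvP_three
  tr_mul_ne := fun _ _ _ hne hc => prod_ne_tv ((comm_iff hne).1 hc)

theorem inLine_mapA {g : Agrp} {p : Pt} {v : Vec} (h : InLine p v) : InLine (aHom g p) (g.1 v) := by
  by_cases h0 : v = zeroV
  · subst h0; exact Or.inl (semi_zero g.2)
  obtain ⟨hs, hp⟩ := inLine_sing h h0
  obtain ⟨hs', hp'⟩ := aHom_follows g v hs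
  rw [← hp, ← hp']
  exact inLine_of_sing hs'

theorem rep0_q : (allBelow (fun x => !Nat.beq (repC' 0 x) x || Nat.beq (q0 x) 0) 256) = true := by decide +kernel

theorem rep0_fix {σ γ : Equiv.Perm Vec} (hγ : γ ∈ Lgrp) (hσ : σ = γ * repV' 0 * γ⁻¹) {x : Vec} (hx : σ x = x) :
    q0 x = 0 := by
  have hu : repC' 0 (γ⁻¹ x : Vec) = (γ⁻¹ x : Vec) := by
    rw [← show ((0 : Fin 2) : ℕ) = 0 from rfl, ← repV_val]
    refine congrArg Fin.val ?_
    conv_rhs => rw [← hx, hσ, Equiv.Perm.mul_apply, Equiv.Perm.mul_apply, perm_inv_self]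
  have h := allBelow_spec _ _ rep0_q (γ⁻¹ x : Vec) (γ⁻¹ x : Vec).2
  simp only [hu, Nat.beq_refl, Bool.not_true, Bool.false_or, Nat.beq_eq] at h
  rw [← perm_self_inv γ x, lin_q hγ]
  exact h

variable {G : Type*} [Group G] [Finite G] {z : G}

namespace CrdA

variable (K : CrdA z)

include K

theorem sq : z * z = 1 := K.xs.toXSub.sq

theorem comm_z {a : G} (ha : a ∈ coreAt z) : Commute z a := (K.xs.comm ha).symm

theorem conj_core {g : G} (hg : Commute z g) {a : G} (ha : a ∈ coreAt z) : g * a * g⁻¹ ∈ coreAt z :=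
  conj_mem (coreAt_normal z (mem_centralizer_one.2 hg.eq.symm)) ha

theorem comm_mem {g : G} (hg : Commute z g) {a : G} (ha : a ∈ coreAt z) : ⁅g, a⁆ ∈ coreAt z := by
  rw [commutatorElement_def]
  exact mul_mem (K.conj_core hg ha) (inv_mem ha)

theorem nv_one : K.nv 1 = zeroV := by
  have := K.nv_mul 1 (one_mem _) 1 (one_mem _)
  rw [one_mul] at this
  rw [this, xorV_self]

theorem nv_z : K.nv z = zeroV := by
  rw [← K.nv_one]
  exact ((K.nv_eq 1 (one_mem _) z K.xs.mem).2 (Or.inr (one_mul z).symm)).symm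

theorem nv_zero {a : G} (ha : a ∈ coreAt z) : K.nv a = zeroV ↔ a ∈ zpowers z := by
  rw [K.xs.mem_zpowers_iff, ← K.nv_one, eq_comm, K.nv_eq 1 (one_mem _) a ha, one_mul]

theorem nv_inv {a : G} (ha : a ∈ coreAt z) : K.nv a⁻¹ = K.nv a := by
  have h := K.nv_mul a⁻¹ (inv_mem ha) a ha
  rw [inv_mul_cancel, K.nv_one] at h
  exact xorV_eq_zero h.symm

theorem nv_comm {g : G} (hg : Commute z g) {a : G} (ha : a ∈ coreAt z) :
    K.nv ⁅g, a⁆ = xorV (K.nv a) ((K.lin g).1 (K.nv a)) := by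
  rw [commutatorElement_def, K.nv_mul _ (K.conj_core hg ha) _ (inv_mem ha), K.nv_inv ha, K.lin_conj g hg a ha,
    xorV_comm]

theorem comm_zpowers {g : G} (hg : Commute z g) {a : G} (ha : a ∈ coreAt z) :
    ⁅g, a⁆ ∈ zpowers z ↔ (K.lin g).1 (K.nv a) = K.nv a := by
  rw [← K.nv_zero (K.comm_mem hg ha), K.nv_comm hg ha]
  exact ⟨fun h => (xorV_eq_zero h).symm, fun h => by rw [h, xorV_self]⟩

theorem conj_z {g : G} (hg : Commute z g) {a : G} (ha : a ∈ coreAt z) (h : (K.lin g).1 (K.nv a) = K.nv a) :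
    g * a * g⁻¹ = a ∨ g * a * g⁻¹ = a * z := by
  rw [← K.lin_conj g hg a ha] at h
  exact (K.nv_eq a ha _ (K.conj_core hg ha)).1 h.symm

theorem lin_fix {g : G} (hg : Commute z g) {s : G} (hs : s ∈ coreAt z) (hgs : Commute s g) :
    (K.lin g).1 (K.nv s) = K.nv s := by
  rw [← K.lin_conj g hg s hs, ← hgs.eq, mul_inv_cancel_right]

theorem pol_comm {a b : G} (ha : a ∈ coreAt z) (hb : b ∈ coreAt z) :
    Commute a b ↔ polC (K.nv a) (K.nv b) = 0 := by
  have hX := K.xs.toXSub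
  have hab := mul_mem ha hb
  have hq : ∀ v : Vec, q0 v = 0 ∨ q0 v = 1 := by decide +kernel
  have hval : ∀ {c : G}, c ∈ coreAt z → (c * c = 1 ∧ q0 (K.nv c) = 0) ∨ (c * c = z ∧ q0 (K.nv c) = 1) := by
    intro c hc
    rcases hX.sq_cases hc with h | h
    · exact Or.inl ⟨h, (K.nv_sq c hc).1 h⟩
    · refine Or.inr ⟨h, (hq _).resolve_left fun e => hX.ne_one ?_⟩
      rw [← h]; exact (K.nv_sq c hc).2 e
  have hp : polC (K.nv a) (K.nv b) = Nat.xor (q0 (K.nv (a * b))) (Nat.xor (q0 (K.nv a)) (q0 (K.nv b))) := by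
    rw [K.nv_mul a ha b hb]; rfl
  have hrel : a * b * (a * b) = ⁅a, b⁆ * (b * a * (a * b)) := by rw [commutatorElement_def]; group
  have hsq : b * a * (a * b) = (a * a) * (b * b) := by
    rw [show b * a * (a * b) = b * (a * a) * b from by group]
    rcases hX.sq_cases ha with h | h <;> rw [h]
    · simp
    · rw [hX.comm hb, mul_assoc]
  rw [hsq] at hrel
  have hne := hX.ne_one
  have hiff : Commute a b ↔ ⁅a, b⁆ = 1 := commutatorElement_eq_one_iff_mul_comm.symm
  rw [hiff, hp]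
  rcases hX.comm_cases ha hb with hc | hc <;> rcases hval hab with ⟨hs, e⟩ | ⟨hs, e⟩ <;>
    rcases hval ha with ⟨hsa, ea⟩ | ⟨hsa, ea⟩ <;> rcases hval hb with ⟨hsb, eb⟩ | ⟨hsb, eb⟩ <;>
    (rw [hs, hc, hsa, hsb] at hrel; rw [hc, e, ea, eb]) <;>
    simp [hne, hne.symm, hX.sq] at hrel ⊢

theorem pre_ncard (S : Set Vec) : {a | a ∈ coreAt z ∧ K.nv a ∈ S}.ncard = 2 * S.ncard := by
  classical
  induction S, Set.toFinite S using Set.Finite.induction_on with
  | empty => simp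
  | @insert v S hv hS ih =>
    obtain ⟨b, hb, rfl⟩ := K.nv_surj v
    have e : {a | a ∈ coreAt z ∧ K.nv a ∈ insert (K.nv b) S} = {b, b * z} ∪ {a | a ∈ coreAt z ∧ K.nv a ∈ S} := by
      ext a
      simp only [Set.mem_ofPred_eq, Set.mem_insert_iff, Set.mem_union, Set.mem_singleton_iff]
      constructor
      · rintro ⟨ha, h | h⟩
        · exact Or.inl ((K.nv_eq b hb a ha).1 h.symm)
        · exact Or.inr ⟨ha, h⟩
      · rintro (h | ⟨ha, h⟩)
        · have ha : a ∈ coreAt z := by rcases h with rfl | rfl; exacts [hb, mul_mem hb K.xs.mem]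
          exact ⟨ha, Or.inl ((K.nv_eq b hb a ha).2 h).symm⟩
        · exact ⟨ha, Or.inr h⟩
    rw [e, Set.ncard_union_eq ?_ (Set.toFinite _) (Set.toFinite _), Set.ncard_pair (K.xs.toXSub.ne_mul_z b), ih,
      Set.ncard_insert_of_notMem hv hS]
    · ring
    · rw [Set.disjoint_left]
      rintro a ha ⟨ha', h⟩
      exact hv ((K.nv_eq b hb a ha').2 ha ▸ h)

/-- The action on the points. -/
noncomputable def perm (g : G) : Equiv.Perm Pt := by
  classical exact if Commute z g then aHom (K.lin g) else 1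

theorem perm_eq {g : G} (hg : Commute z g) : K.perm g = aHom (K.lin g) := by
  classical
  rw [perm, if_pos hg]

/-- The preimage of a line. -/
def rad (p : Pt) : Subgroup G where
  carrier := {a | a ∈ coreAt z ∧ InLine p (K.nv a)}
  one_mem' := ⟨one_mem _, Or.inl K.nv_one⟩
  mul_mem' := fun {a b} ha hb => ⟨mul_mem ha.1 hb.1, by rw [K.nv_mul a ha.1 b hb.1]; exact inLine_xor ha.2 hb.2⟩
  inv_mem' := fun {a} ha => ⟨inv_mem ha.1, by rw [K.nv_inv ha.1]; exact ha.2⟩

theorem rad_nv_ne {s : G} (hs : s ∈ coreAt z) (h1 : s ≠ 1) (hz : s ≠ z) : K.nv s ≠ zeroV := fun h =>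
  (K.xs.mem_zpowers_iff.1 ((K.nv_zero hs).1 h)).elim h1 hz

theorem centralizer_rad (p : Pt) {a : G} (ha : a ∈ coreAt z) :
    (∀ r ∈ K.rad p, Commute a r) ↔ herm (K.nv a) (repC p) = 0 := by
  constructor
  · intro h
    obtain ⟨b, hb, e⟩ := K.nv_surj (repV p)
    obtain ⟨c, hc, e'⟩ := K.nv_surj (omV (repV p))
    refine ((perp_facts p).1 _).2 ⟨?_, ?_⟩
    · rw [← e, ← K.pol_comm ha hb]
      exact h b ⟨hb, by rw [e]; exact Or.inr (Or.inl rfl)⟩
    · rw [← e', ← K.pol_comm ha hc]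
      exact h c ⟨hc, by rw [e']; exact Or.inr (Or.inr (Or.inl rfl))⟩
  · exact fun h r hr => (K.pol_comm ha hr.1).2 (pol_xor hr.2 h)

/-- The image of a subgroup of the centralizer. -/
noncomputable def imgHom (N : Subgroup G) (hN : N ≤ centralizer ({z} : Set G)) : N →* Agrp :=
  MonoidHom.mk' (fun a => K.lin a) fun a b => K.lin_mul a b
    (mem_centralizer_one.1 (hN a.2) : (a : G) * z = z * a).symm
    (mem_centralizer_one.1 (hN b.2) : (b : G) * z = z * b).symm

omit K in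
theorem comm_of_le {N : Subgroup G} (hN : N ≤ centralizer ({z} : Set G)) {a : G} (ha : a ∈ N) : Commute z a :=
  (mem_centralizer_one.1 (hN ha)).symm

theorem perm_image (N : Subgroup G) (hN : N ≤ centralizer ({z} : Set G)) :
    (K.perm '' (N : Set G)) = (((K.imgHom N hN).range.map aHom : Subgroup (Equiv.Perm Pt)) : Set (Equiv.Perm Pt)) := by
  ext x
  constructor
  · rintro ⟨a, ha, rfl⟩
    exact ⟨K.lin a, ⟨⟨a, ha⟩, rfl⟩, (K.perm_eq (comm_of_le hN ha)).symm⟩
  · rintro ⟨_, ⟨a, rfl⟩, rfl⟩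
    exact ⟨a, a.2, K.perm_eq (comm_of_le hN a.2)⟩

theorem perm_ncard (N : Subgroup G) (hN : N ≤ centralizer ({z} : Set G)) :
    (K.perm '' (N : Set G)).ncard = Nat.card ↥((K.imgHom N hN).range.map aHom) := by
  rw [K.perm_image N hN, ← Nat.card_coe_set_eq]
  rfl

theorem mem_of_perm {g : G} (hg : Commute z g) (h : K.perm g = 1) : g ∈ coreAt z := by
  rw [K.perm_eq hg, map_eq_one_iff aHom aHom_injective] at h
  exact (K.lin_one g hg).1 h

theorem lift_fix {s : G} (hs : s ∈ coreAt z) (h1 : s ≠ 1) (h2 : s ≠ z) {σ : Agrp} (hσ : σ.1 (K.nv s) = K.nv s) :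
    ∃ g ∈ centralizer ({z, s} : Set G), K.lin g = σ := by
  obtain ⟨g, hg, rfl⟩ := K.lin_surj σ
  have key : ∀ h : G, Commute z h → h * s * h⁻¹ = s → h ∈ centralizer ({z, s} : Set G) := fun h hh e => by
    refine mem_centralizer_iff.2 fun y hy => ?_
    rcases hy with rfl | rfl
    · exact hh.eq
    · exact (mul_inv_eq_iff_eq_mul.1 e).symm
  rcases K.conj_z hg hs hσ with e | e
  · exact ⟨g, key g hg e, rfl⟩
  · obtain ⟨q, hq, hqe⟩ := K.xs.toXSub.exists_conj hs h1 h2
    refine ⟨g * q, key _ (hg.mul_right (K.comm_z hq)) ?_, ?_⟩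
    · rw [show g * q * s * (g * q)⁻¹ = g * (q * s * q⁻¹) * g⁻¹ from by group, hqe,
        show g * (s * z) * g⁻¹ = g * s * g⁻¹ * (g * z * g⁻¹) from by group, e, ← hg.eq, mul_inv_cancel_right,
        mul_assoc, K.sq, mul_one]
    · rw [K.lin_mul g q hg (K.comm_z hq), (K.lin_one q (K.comm_z hq)).2 hq, mul_one]

theorem lin_sq {g : G} (hg : Commute z g) (h : g * g ∈ coreAt z) : K.lin g * K.lin g = 1 := by
  rw [← K.lin_mul g g hg hg]
  exact (K.lin_one _ (hg.mul_right hg)).2 h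

theorem lin_std {t : G} (ht : Commute z t) (ht2 : t * t = 1) (htJ : t ∉ coreAt z) (hne : ∀ p, K.perm t ≠ tvP p) :
    (GoodP (K.perm t) ∧ ∃ γ ∈ Lgrp, (K.lin t).1 = γ * s0V * γ⁻¹) ∨
      ∃ k : Fin 2, (GoodP (K.perm t) ↔ (k : ℕ) = 0) ∧ ∃ γ ∈ Lgrp, (K.lin t).1 = γ * repV' k * γ⁻¹ := by
  have h2 : K.lin t * K.lin t = 1 := K.lin_sq ht (ht2 ▸ one_mem _)
  have h1 : K.lin t ≠ 1 := fun h => htJ ((K.lin_one t ht).1 h)
  rw [K.perm_eq ht] at hne ⊢
  rcases inv_cases (aHom_mem (K.lin t)) (by rw [← map_mul, h2, map_one])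
      (fun e => h1 (aHom_injective (e.trans (map_one aHom).symm))) with ⟨p, e⟩ | ⟨p, q, hadj, e⟩ | ⟨k, hk, hc⟩
  · exact absurd e (hne p)
  · have hin : (K.lin t).1 ∈ Lgrp := aHom_inner (e ▸ mul_mem (tvP_mem p) (tvP_mem q))
    refine Or.inl ⟨Or.inl (e ▸ prod_nfix hadj), ?_⟩
    refine exists_std (σ := ⟨(K.lin t).1, hin⟩) (Subtype.ext (congrArg Subtype.val h2 :))
      (fun h => h1 (Subtype.ext (congrArg Subtype.val h :))) fun p' => ?_
    rw [← aHom_lin hin]
    exact hne p'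
  · refine Or.inr ⟨⟨k, hk⟩, ?_, exists_rep (σ := K.lin t) (k := ⟨k, hk⟩) hc⟩
    rw [GoodP, rep_nfix hk hc]
    interval_cases k <;> simp

set_option maxHeartbeats 1600000 in
/-- The local hypotheses. -/
noncomputable def loc : Loc geo z where
  perm := K.perm
  rad := K.rad
  xs := K.xs
  card := K.card
  perm_mul g h hg hh := by rw [K.perm_eq (hg.mul_right hh), K.perm_eq hg, K.perm_eq hh, K.lin_mul g h hg hh, map_mul]
  perm_core g hg := by
    rw [K.perm_eq (K.comm_z hg), map_eq_one_iff aHom aHom_injective]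
    exact (K.lin_one g (K.comm_z hg)).2 hg
  ker_two g hg h _ _ := K.mem_of_perm hg h
  ker_tr p q e f he hf _ _ _ _ n h := K.mem_of_perm ((he.mul_right hf).pow_right n) h
  ker_fix g hg h _ _ _ _ _ := K.mem_of_perm hg h
  adjust t g ht hg ht2 hc := by
    refine ⟨1, Commute.one_right z, ?_, ?_⟩
    · rw [K.perm_eq (Commute.one_right z), (K.lin_one 1 (Commute.one_right z)).2 (one_mem _), map_one]
    · rw [mul_one]
      refine K.mem_of_perm (ht.mul_right ((hg.mul_right ht).mul_right hg.inv_right)) ?_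
      rw [K.perm_eq (ht.mul_right ((hg.mul_right ht).mul_right hg.inv_right)),
        K.lin_mul _ _ ht ((hg.mul_right ht).mul_right hg.inv_right), K.lin_mul _ _ (hg.mul_right ht) hg.inv_right,
        K.lin_mul _ _ hg ht, map_mul, map_mul, map_mul, ← K.perm_eq ht, ← K.perm_eq hg, hc.eq,
        mul_assoc, ← K.perm_eq hg.inv_right]
      have h1 : K.perm g * K.perm g⁻¹ = 1 := by
        rw [K.perm_eq hg, K.perm_eq hg.inv_right, ← map_mul, ← K.lin_mul _ _ hg hg.inv_right, mul_inv_cancel,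
          (K.lin_one 1 (Commute.one_right z)).2 (one_mem _), map_one]
      rw [h1, mul_one, K.perm_eq ht, ← map_mul, K.lin_sq ht (ht2 ▸ one_mem _), map_one]
  col _ := 0
  col_eq u v hu hv hu2 hv2 h _ := by
    refine K.mem_of_perm (hu.mul_right hv) ?_
    rw [K.perm_eq (hu.mul_right hv), K.lin_mul u v hu hv, map_mul, ← K.perm_eq hu, h, K.perm_eq hv, ← map_mul,
      K.lin_sq hv (hv2 ▸ one_mem _), map_one]
  perm_adj g hg p q := by rw [K.perm_eq hg]; exact adj_permA (aHom_mem _) p q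
  perm_tr g hg p := by rw [K.perm_eq hg]; exact tvP_conjA (aHom_mem _) p
  trans p q := by
    obtain ⟨τ, hτ, e⟩ := exists_move p q
    obtain ⟨σ, rfl⟩ := exists_semi (grp_le hτ)
    obtain ⟨g, hg, rfl⟩ := K.lin_surj σ
    exact ⟨g, hg, by rw [K.perm_eq hg]; exact e⟩
  perm_invs g hg h2 h1 := by
    rw [K.perm_eq hg]
    refine mem_invsA (aHom_mem _) (by rw [← map_mul, K.lin_sq hg h2, map_one]) fun e => h1 ?_
    exact (K.lin_one g hg).1 (aHom_injective (e.trans (map_one aHom).symm))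
  rad_le _ := fun _ ha => ha.1
  z_mem_rad _ := ⟨K.xs.mem, Or.inl K.nv_z⟩
  rad_card p := by
    rw [← SetLike.coe_sort_coe, Nat.card_coe_set_eq]
    exact (K.pre_ncard {v | InLine p v}).trans (by rw [line_card p])
  rad_sq p x hx := (K.nv_sq x hx.1).2 (inLine_q hx.2)
  perp_card p := by
    have e : ((coreAt z ⊓ centralizer (K.rad p : Set G) : Subgroup G) : Set G) =
        {a | a ∈ coreAt z ∧ K.nv a ∈ {x : Vec | herm x (repC p) = 0}} := by
      ext a
      simp only [coe_inf, Set.mem_inter_iff, SetLike.mem_coe, Set.mem_ofPred_eq]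
      refine and_congr_right fun ha => ?_
      rw [← K.centralizer_rad p ha, mem_centralizer_iff]
      exact ⟨fun h r hr => (h r hr).symm, fun h r hr => (h r hr).eq.symm⟩
    rw [← SetLike.coe_sort_coe, Nat.card_coe_set_eq, e, K.pre_ncard, (perp_facts p).2]
  rad_conj g hg p x hx := by
    refine ⟨K.conj_core hg hx.1, ?_⟩
    rw [K.lin_conj g hg x hx.1, K.perm_eq hg]
    exact inLine_mapA hx.2
  rad_inf p q hpq x hp hq := by
    rw [← K.nv_zero hp.1]
    by_contra h
    exact hpq ((inLine_sing hp.2 h).2.symm.trans (inLine_sing hq.2 h).2)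
  rad_cover x hx h2 h1 hz := by
    have hs : Sing (K.nv x) := ⟨fun h => K.rad_nv_ne hx h1 hz (Fin.ext h), (K.nv_sq x hx).1 h2⟩
    exact ⟨pIdx (K.nv x), hx, inLine_of_sing hs⟩
  tr_comm_mem p g hg he _ a ha := by
    refine ⟨K.comm_mem hg ha, ?_⟩
    rw [K.perm_eq hg] at he
    rw [K.nv_comm hg ha, eq_tvA he]
    rcases ((tvC_check p).1 (K.nv a) (K.nv a).2).2.2.2 with h | h | h | h
    · left
      rw [show tvV p (K.nv a) = K.nv a from Fin.ext h, xorV_self]
    · exact Or.inr (Or.inl (Fin.ext h))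
    · exact Or.inr (Or.inr (Or.inl (Fin.ext h)))
    · exact Or.inr (Or.inr (Or.inr (Fin.ext h)))
  tr_ker p g hg he _ a ha := by
    rw [K.perm_eq hg] at he
    rw [K.comm_zpowers hg ha, eq_tvA he, K.centralizer_rad p ha, ← ((tvC_check p).1 (K.nv a) (K.nv a).2).2.2.1,
      Fin.ext_iff]
    rfl
  stab_elem p s hs h1 hz N hN hnor hsq := by
    have hle : N ≤ centralizer ({z} : Set G) := hN.trans (centralizer_le (by simp))
    have hsing : Sing (K.nv s) := (inLine_sing hs.2 (K.rad_nv_ne hs.1 h1 hz)).1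
    have hN' := stab_elemA hsing (N := (K.imgHom N hle).range.map Agrp.subtype) ?_ ?_ ?_
    · have ec : (K.perm '' (N : Set G)).ncard = Nat.card ↥((K.imgHom N hle).range.map Agrp.subtype) := by
        rw [K.perm_ncard N hle, Subgroup.card_map_of_injective aHom_injective,
          Subgroup.card_map_of_injective (f := Agrp.subtype) Agrp.subtype_injective]
      rw [ec]
      refine ⟨hN'.1, fun h8 a ha v hv => ?_⟩
      have hl : (K.lin a).1 ∈ Lgrp := hN'.2 h8 ⟨K.lin a, ⟨⟨a, ha⟩, rfl⟩, rfl⟩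
      refine K.conj_z (comm_of_le hle ha) hv.1 ?_
      exact inLine_fixed (g := ⟨(K.lin a).1, hl⟩) hs.2 (K.rad_nv_ne hs.1 h1 hz)
        (K.lin_fix (comm_of_le hle ha) hs.1 (show Commute s a from mem_centralizer_iff.1 (hN ha) s (by simp))) hv.2
    · rintro _ ⟨_, ⟨a, rfl⟩, rfl⟩
      exact ⟨(K.lin a).2, K.lin_fix (comm_of_le hle a.2) hs.1
        (show Commute s a from mem_centralizer_iff.1 (hN a.2) s (by simp))⟩
    · rintro _ ⟨_, ⟨a, rfl⟩, rfl⟩
      exact congrArg Subtype.val (K.lin_sq (comm_of_le hle a.2) (hsq a a.2))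
    · rintro σ hσ hfix _ ⟨_, ⟨a, rfl⟩, rfl⟩
      obtain ⟨g, hg, e⟩ := K.lift_fix hs.1 h1 hz (σ := ⟨σ, hσ⟩) hfix
      have hgz : Commute z g := (mem_centralizer_iff.1 hg z (by simp) : z * g = g * z)
      have hm : g * a * g⁻¹ ∈ N := (mem_normalizer_iff.1 (hnor hg) a).1 a.2
      refine ⟨K.lin (g * a * g⁻¹), ⟨⟨_, hm⟩, rfl⟩, ?_⟩
      have ha : Commute z (a : G) := comm_of_le hle a.2
      have h1' : K.lin g * K.lin g⁻¹ = 1 := by
        rw [← K.lin_mul g g⁻¹ hgz hgz.inv_right, mul_inv_cancel]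
        exact (K.lin_one 1 (Commute.one_right z)).2 (one_mem _)
      rw [K.lin_mul _ _ (hgz.mul_right ha) hgz.inv_right, K.lin_mul g a hgz ha, eq_inv_of_mul_eq_one_right h1', e]
      rfl
  stab_gap p s hs h1 hz W hW hWsq hzW hsW hnor h16 := by
    have hn := K.rad_nv_ne hs.1 h1 hz
    have hsing : Sing (K.nv s) := (inLine_sing hs.2 hn).1
    have e : (W : Set G) = {a | a ∈ coreAt z ∧ K.nv a ∈ K.nv '' (W : Set G)} := by
      ext a
      refine ⟨fun ha => ⟨hW ha, a, ha, rfl⟩, fun ⟨ha, w, hw, e⟩ => ?_⟩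
      rcases (K.nv_eq w (hW hw) a ha).1 e with rfl | rfl
      exacts [hw, mul_mem hw hzW]
    have h8 : (K.nv '' (W : Set G)).ncard = 8 := by
      have := K.pre_ncard (K.nv '' (W : Set G))
      rw [← e, ← Nat.card_coe_set_eq] at this
      have h16' : Nat.card ((W : Set G) : Type _) = 16 := h16
      omega
    obtain ⟨_, ⟨x, hx, rfl⟩, hxn⟩ := Set.exists_mem_notMem_of_ncard_lt_ncard
      (s := ({zeroV, K.nv s} : Set Vec)) (t := K.nv '' (W : Set G))
      (by rw [h8]; exact lt_of_le_of_lt (Set.ncard_insert_le _ _) (by rw [Set.ncard_singleton]; norm_num))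
      (Set.toFinite _)
    simp only [Set.mem_insert_iff, Set.mem_singleton_iff, not_or] at hxn
    have hadd : ∀ a ∈ K.nv '' (W : Set G), ∀ b ∈ K.nv '' (W : Set G), xorV a b ∈ K.nv '' (W : Set G) := by
      rintro _ ⟨a, ha, rfl⟩ _ ⟨b, hb, rfl⟩
      exact ⟨a * b, mul_mem ha hb, K.nv_mul a (hW ha) b (hW hb)⟩
    have hinv : ∀ σ ∈ Lgrp, σ (K.nv s) = K.nv s → ∀ v ∈ K.nv '' (W : Set G), σ v ∈ K.nv '' (W : Set G) := by
      rintro σ hσ hfix _ ⟨a, ha, rfl⟩
      obtain ⟨g, hg, e⟩ := K.lift_fix hs.1 h1 hz (σ := ⟨σ, lin_le hσ⟩) hfix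
      have hgz : Commute z g := (mem_centralizer_iff.1 hg z (by simp) : z * g = g * z)
      exact ⟨g * a * g⁻¹, (mem_normalizer_iff.1 (hnor hg) a).1 ha, by rw [K.lin_conj g hgz a (hW ha), e]⟩
    have hq : ∀ v ∈ K.nv '' (W : Set G), q0 v = 0 := by
      rintro _ ⟨a, ha, rfl⟩
      exact (K.nv_sq a (hW ha)).1 (hWsq a ha)
    have hom := close_line hsing hq hadd hinv ⟨s, hsW, rfl⟩ ⟨x, hx, rfl⟩ (fun h => hxn.1 (Fin.ext h)) hxn.2
    exact gap_line hsing hq hadd hinv ⟨s, hsW, rfl⟩ hom h8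
  stab_closure p s hs h1 hz W hW hWsq hzW hsW h8 hnor := by
    have hn := K.rad_nv_ne hs.1 h1 hz
    have hsing : Sing (K.nv s) := (inLine_sing hs.2 hn).1
    obtain ⟨x, hx, hx0, hxn⟩ : ∃ x ∈ W, K.nv x ≠ zeroV ∧ K.nv x ≠ K.nv s := by
      by_contra hcon
      push Not at hcon
      have hsub : (W : Set G) ⊆ {a | a ∈ coreAt z ∧ K.nv a ∈ ({zeroV, K.nv s} : Set Vec)} := fun a ha =>
        ⟨hW ha, (em (K.nv a = zeroV)).elim Or.inl fun h => Or.inr (hcon a ha h)⟩
      have := Set.ncard_le_ncard hsub (Set.toFinite _)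
      rw [K.pre_ncard, Set.ncard_pair (fun h => hn h.symm), ← Nat.card_coe_set_eq] at this
      have h8' : 8 ≤ Nat.card ((W : Set G) : Type _) := h8
      omega
    have hom : omV (K.nv s) ∈ K.nv '' (W : Set G) := by
      refine close_line hsing (W := K.nv '' (W : Set G)) ?_ ?_ ?_ ⟨s, hsW, rfl⟩ ⟨x, hx, rfl⟩
        (fun h => hx0 (Fin.ext h)) hxn
      · rintro _ ⟨a, ha, rfl⟩
        exact (K.nv_sq a (hW ha)).1 (hWsq a ha)
      · rintro _ ⟨a, ha, rfl⟩ _ ⟨b, hb, rfl⟩
        exact ⟨a * b, mul_mem ha hb, K.nv_mul a (hW ha) b (hW hb)⟩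
      · rintro σ hσ hfix _ ⟨a, ha, rfl⟩
        obtain ⟨g, hg, e⟩ := K.lift_fix hs.1 h1 hz (σ := ⟨σ, lin_le hσ⟩) hfix
        have hgz : Commute z g := (mem_centralizer_iff.1 hg z (by simp) : z * g = g * z)
        exact ⟨g * a * g⁻¹, (mem_normalizer_iff.1 (hnor hg) a).1 ha, by rw [K.lin_conj g hgz a (hW ha), e]⟩
    intro a ha
    have hall : ∀ v, InLine p v → v ∈ K.nv '' (W : Set G) := by
      have h0 : zeroV ∈ K.nv '' (W : Set G) := ⟨1, one_mem W, K.nv_one⟩
      obtain ⟨b, hb, eb⟩ := hom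
      have h3 : omV (omV (K.nv s)) ∈ K.nv '' (W : Set G) := by
        refine ⟨s * b, mul_mem hsW hb, ?_⟩
        rw [K.nv_mul s hs.1 b (hW hb), eb]
        apply xorV_eq_zero
        rw [show xorV (xorV (K.nv s) (omV (K.nv s))) (omV (omV (K.nv s))) =
          xorV (K.nv s) (xorV (omV (K.nv s)) (omV (omV (K.nv s)))) from Fin.ext (Nat.xor_assoc _ _ _)]
        exact (omega_facts _).2
      have hn' : K.nv s ∈ K.nv '' (W : Set G) := ⟨s, hsW, rfl⟩
      have hb' : omV (K.nv s) ∈ K.nv '' (W : Set G) := ⟨b, hb, eb⟩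
      intro v hv
      have o3 := (omega_facts (repV p)).1
      rcases hv with rfl | rfl | rfl | rfl
      · exact h0
      all_goals
        rcases hs.2 with e | e | e | e
        · exact absurd e hn
        all_goals
          rw [e] at hn' hb' h3
          try simp only [o3] at hn' hb' h3
          assumption
    obtain ⟨w, hw, e⟩ := hall _ ha.2
    rcases (K.nv_eq w (hW hw) a ha.1).1 e with rfl | rfl
    exacts [hw, mul_mem hw hzW]
  elem_le N hN hsq := by
    rw [K.perm_ncard N hN]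
    refine elem16A ?_ ?_
    · rintro _ ⟨σ, -, rfl⟩; exact aHom_mem σ
    · rintro _ ⟨_, ⟨a, rfl⟩, rfl⟩
      show aHom (K.lin a) * aHom (K.lin a) = 1
      rw [← map_mul, K.lin_sq (comm_of_le hN a.2) (hsq a a.2), map_one]
  tr_small p N hN hsq hc := by
    have hM : ∀ x ∈ (K.imgHom N hN).range.map aHom, ∃ a ∈ N, Commute z a ∧ x = K.perm a := by
      rintro _ ⟨_, ⟨a, rfl⟩, rfl⟩
      exact ⟨a, a.2, comm_of_le hN a.2, (K.perm_eq (comm_of_le hN a.2)).symm⟩
    obtain ⟨h32, hcen⟩ := tr32A (p := p) (M := (K.imgHom N hN).range.map aHom)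
      (by rintro _ ⟨σ, -, rfl⟩; exact aHom_mem σ)
      (fun x hx => by
        obtain ⟨a, ha, haz, rfl⟩ := hM x hx
        have := hsq a ha
        rwa [K.perm_eq (haz.mul_right haz), K.lin_mul a a haz haz, map_mul, ← K.perm_eq haz] at this)
      (fun x hx => by obtain ⟨a, ha, -, rfl⟩ := hM x hx; exact hc a ha)
    refine ⟨(K.perm_ncard N hN).le.trans h32, fun h a ha hcom => ?_⟩
    refine hcen ((K.perm_ncard N hN).symm.trans h) _ ?_ fun x hx => ?_
    · rw [← SetLike.mem_coe, ← K.perm_image N hN]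
      exact ⟨a, ha, rfl⟩
    · obtain ⟨b, hb, -, rfl⟩ := hM x hx
      exact hcom b hb
  other_comm t ht ht2 htJ hne a ha hcomm := by
    have hfx := (K.comm_zpowers ht ha).1 hcomm
    have fin : ∀ y, xorV y ((K.lin t).1 y) = K.nv a → ∃ b ∈ coreAt z, a = ⁅t, b⁆ ∨ a = ⁅t, b⁆ * z := fun y hy => by
      obtain ⟨b, hb, rfl⟩ := K.nv_surj y
      refine ⟨b, hb, ?_⟩
      rw [← K.nv_comm ht hb] at hy
      exact (K.nv_eq _ (K.comm_mem ht hb) a ha).1 hy
    rcases K.lin_std ht ht2 htJ hne with ⟨-, γ, hγ, hσ⟩ | ⟨k, hgood, γ, hγ, hσ⟩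
    · obtain ⟨hq, y, hy⟩ := other_fix hγ hσ hfx
      exact ⟨fun _ => (K.nv_sq a ha).2 hq, fin y hy⟩
    · obtain ⟨y, hy⟩ := rep_fix hγ hσ hfx
      refine ⟨fun hg => (K.nv_sq a ha).2 ?_, fin y hy⟩
      obtain rfl : k = 0 := Fin.ext (hgood.1 hg)
      exact rep0_fix hγ hσ hfx
  other_card t ht ht2 htJ hne := by
    have e : {a | a ∈ coreAt z ∧ ⁅t, a⁆ ∈ zpowers z ∧ a * a = 1} =
        {a | a ∈ coreAt z ∧ K.nv a ∈ {x : Vec | (K.lin t).1 x = x ∧ q0 x = 0}} := by
      ext a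
      exact and_congr_right fun ha => and_congr (K.comm_zpowers ht ha) (K.nv_sq a ha)
    rw [e, K.pre_ncard]
    rcases K.lin_std ht ht2 htJ hne with ⟨-, γ, hγ, hσ⟩ | ⟨k, hgood, γ, hγ, hσ⟩
    · have e2 : {x : Vec | (K.lin t).1 x = x ∧ q0 x = 0} = {x : Vec | (K.lin t).1 x = x} :=
        Set.ext fun x => and_iff_left_of_imp fun hx => (other_fix hγ hσ hx).1
      have := other_count hσ
      rw [e2]
      exact ⟨fun _ => by omega, by omega⟩
    · have := rep_count hγ hσ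
      refine ⟨fun hg => ?_, ?_⟩
      · rw [if_pos (hgood.1 hg)] at this
        omega
      · split_ifs at this <;> omega
  other_pair t ht ht2 htJ hne W hW hzW hWsq hx hbig hWt hnor := by
    obtain ⟨x, hxW, hxz⟩ := hx
    have hWnv : ∀ u, u ∈ coreAt z → K.nv u ∈ K.nv '' (W : Set G) → u ∈ W := fun u hu ⟨w, hw, e⟩ => by
      rcases (K.nv_eq w (hW hw) u hu).1 e with rfl | rfl
      exacts [hw, mul_mem hw hzW]
    have hadd : ∀ a ∈ K.nv '' (W : Set G), ∀ b ∈ K.nv '' (W : Set G), xorV a b ∈ K.nv '' (W : Set G) := by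
      rintro _ ⟨a, ha, rfl⟩ _ ⟨b, hb, rfl⟩; exact ⟨a * b, mul_mem ha hb, K.nv_mul a (hW ha) b (hW hb)⟩
    have hfix : ∀ v ∈ K.nv '' (W : Set G), (K.lin t).1 v = v := by
      rintro _ ⟨a, ha, rfl⟩; exact (K.comm_zpowers ht (hW ha)).1 (hWt a ha)
    have hinv : ∀ σ ∈ Lgrp, σ * (K.lin t).1 = (K.lin t).1 * σ → ∀ v ∈ K.nv '' (W : Set G),
        σ v ∈ K.nv '' (W : Set G) := by
      rintro σ hσ' hcomm _ ⟨a, ha, rfl⟩
      obtain ⟨g, hg, e⟩ := K.lin_surj ⟨σ, lin_le hσ'⟩
      have hcg : Commute (K.perm g) (K.perm t) := by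
        rw [K.perm_eq hg, K.perm_eq ht]
        exact (show Commute (K.lin g) (K.lin t) from Subtype.ext (by
          rw [coe_mul, coe_mul, e]; exact hcomm)).map aHom
      have hgt : t * (g * t * g⁻¹) ∈ coreAt z := by
        refine K.mem_of_perm (ht.mul_right ((hg.mul_right ht).mul_right hg.inv_right)) ?_
        rw [K.perm_eq (ht.mul_right ((hg.mul_right ht).mul_right hg.inv_right)),
          K.lin_mul _ _ ht ((hg.mul_right ht).mul_right hg.inv_right), K.lin_mul _ _ (hg.mul_right ht) hg.inv_right,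
          K.lin_mul _ _ hg ht, map_mul, map_mul, map_mul, ← K.perm_eq ht, ← K.perm_eq hg, hcg.eq,
          mul_assoc, K.perm_eq hg, ← map_mul, ← K.lin_mul _ _ hg hg.inv_right, mul_inv_cancel,
          (K.lin_one 1 (Commute.one_right z)).2 (one_mem _), map_one, mul_one, K.perm_eq ht, ← map_mul,
          K.lin_sq ht (ht2 ▸ one_mem _), map_one]
      exact ⟨g * a * g⁻¹, (mem_normalizer_iff.1 (hnor g hg hgt) a).1 ha, by rw [K.lin_conj g hg a (hW ha), e]⟩
    have hx0 : ((K.nv x : Vec) : ℕ) ≠ 0 := fun h => hxz ((K.nv_zero (hW hxW)).1 (Fin.ext h))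
    obtain ⟨a, b, ha, hb, ha0, hb0, hab, hpol⟩ : ∃ a b, xorV a ((K.lin t).1 a) ∈ K.nv '' (W : Set G) ∧
        xorV b ((K.lin t).1 b) ∈ K.nv '' (W : Set G) ∧ (xorV a ((K.lin t).1 a) : ℕ) ≠ 0 ∧
        (xorV b ((K.lin t).1 b) : ℕ) ≠ 0 ∧ xorV a ((K.lin t).1 a) ≠ xorV b ((K.lin t).1 b) ∧
        polC a (xorV b ((K.lin t).1 b)) = 0 := by
      rcases K.lin_std ht ht2 htJ hne with ⟨-, γ, hγ, hσ⟩ | ⟨k, hgood, γ, hγ, hσ⟩
      · exact other_wit hγ hσ hadd hfix hinv (x := K.nv x) ⟨x, hxW, rfl⟩ hx0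
      · refine rep_wit hγ hσ hadd hfix ?_ hinv ⟨_, ⟨x, hxW, rfl⟩, hx0⟩ ?_
        · rintro _ ⟨a, ha, rfl⟩
          exact (K.nv_sq a (hW ha)).1 (hWsq a ha)
        · rcases hbig with hg | h8
          · exact Or.inl (hgood.1 hg)
          · right
            have hsub : (W : Set G) ⊆ {a | a ∈ coreAt z ∧ K.nv a ∈ K.nv '' (W : Set G)} :=
              fun a ha => ⟨hW ha, a, ha, rfl⟩
            have := Set.ncard_le_ncard hsub (Set.toFinite _)
            rw [K.pre_ncard, ← Nat.card_coe_set_eq] at this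
            have h8' : 8 ≤ Nat.card ((W : Set G) : Type _) := h8
            omega
    obtain ⟨a, haJ, rfl⟩ := K.nv_surj a
    obtain ⟨b, hbJ, rfl⟩ := K.nv_surj b
    rw [← K.nv_comm ht haJ] at ha ha0 hab
    rw [← K.nv_comm ht hbJ] at hb hb0 hab hpol
    have hA := K.comm_mem ht haJ
    have hB := K.comm_mem ht hbJ
    refine ⟨a, haJ, b, hbJ, hWnv _ hA ha, hWnv _ hB hb, fun h => ha0 ?_, fun h => hb0 ?_, fun h => hab ?_,
      (K.pol_comm haJ hB).2 hpol⟩
    · rw [(K.nv_zero hA).2 h]; rfl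
    · rw [(K.nv_zero hB).2 h]; rfl
    · exact xorV_eq_zero ((K.nv_mul _ hA _ hB).symm.trans ((K.nv_zero (mul_mem hA hB)).2 h))
  odd_root t ht ht2 htJ hne hng g hg e := by
    rw [K.perm_eq (hg.mul_right hg), K.lin_mul g g hg hg, map_mul, K.perm_eq ht] at e
    rw [K.perm_eq ht] at hne hng
    refine (odd_class (aHom_mem (K.lin t)) ?_ ?_ hne hng).2 (e ▸ sq_mem (aHom_mem (K.lin g)))
    · rw [← map_mul, K.lin_sq ht (ht2 ▸ one_mem _), map_one]
    · exact fun h => htJ ((K.lin_one t ht).1 (aHom_injective (h.trans (map_one aHom).symm)))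
  odd_img t ht ht2 htJ hne hng N hN hsq htN hbig := by
    have hpt := K.perm_eq ht
    have hcl := (odd_class (aHom_mem (K.lin t)) (by rw [← map_mul, K.lin_sq ht (ht2 ▸ one_mem _), map_one])
      (fun h => htJ ((K.lin_one t ht).1 (aHom_injective (h.trans (map_one aHom).symm))))
      (fun p => hpt ▸ hne p) (hpt ▸ hng)).1
    obtain ⟨x, hx, h1, h2⟩ := odd_pair (M := (K.imgHom N hN).range.map aHom) (τ := aHom (K.lin t))
      (by rintro _ ⟨σ, -, rfl⟩; exact aHom_mem σ)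
      (by
        rintro _ ⟨_, ⟨a, rfl⟩, rfl⟩
        show aHom (K.lin a) * aHom (K.lin a) = 1
        rw [← map_mul, K.lin_sq (comm_of_le hN a.2) (hsq a a.2), map_one])
      hcl ⟨K.lin t, ⟨⟨t, htN⟩, rfl⟩, rfl⟩ (by
        rw [← K.perm_ncard N hN]
        refine hbig.imp_right fun ⟨h8, hn⟩ => ⟨h8, ?_⟩
        intro y hy hyc m hm
        rw [← SetLike.mem_coe, ← K.perm_image N hN] at hm ⊢
        obtain ⟨a, ha, rfl⟩ := hm
        obtain ⟨σ, rfl⟩ := exists_semi hy
        obtain ⟨g, hg, rfl⟩ := K.lin_surj σ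
        obtain ⟨a', ha', e⟩ := hn g hg (by rw [K.perm_eq hg, hpt]; exact hyc) a ha
        refine ⟨a', ha', ?_⟩
        have haz := comm_of_le hN ha
        have h1' : K.lin g * K.lin g⁻¹ = 1 := by
          rw [← K.lin_mul g g⁻¹ hg hg.inv_right, mul_inv_cancel]
          exact (K.lin_one 1 (Commute.one_right z)).2 (one_mem _)
        rw [← e, K.perm_eq ((hg.mul_right haz).mul_right hg.inv_right), K.perm_eq haz,
          K.lin_mul _ _ (hg.mul_right haz) hg.inv_right, K.lin_mul g a hg haz, eq_inv_of_mul_eq_one_right h1']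
        simp only [map_mul, map_inv])
    rw [← SetLike.mem_coe, ← K.perm_image N hN] at hx
    obtain ⟨a, ha, rfl⟩ := hx
    exact ⟨a, ha, h1, hpt.symm ▸ h2⟩

end CrdA

/-- The local hypotheses from coordinates without fixed vectors. -/
theorem ASpace.exists_loc {G : Type*} [Group G] [Finite G] {z : G} {V : Type _} [AddCommGroup V] (S : ASpace z V)
    (hfix : ∀ v, (∀ x, S.inn x v = v) → v = 0) : Nonempty (Loc geo z) :=
  let ⟨K⟩ := S.exists_crdA hfix
  ⟨K.loc⟩

end Cfsg.Agent.U62Aut
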