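import Cfsg.Agent.Lib.U62Rec.Model.Space
import Cfsg.Agent.Lib.S3342Id.Aut

/-!
From the hypotheses on the centralizer of an involution to the automorphism group of the symplectic group
acting faithfully on the 2-core modulo its centre, with the quadratic form of the squares.
-/

set_option autoImplicit false
set_option linter.unusedSectionVars false
set_option linter.style.haveILetI false
set_option linter.unnecessarySeqFocus false
set_option maxRecDepth 20000

namespace Cfsg.Agent.U62Aut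

open Subgroup LargeExtra U62Rec.Model
open scoped commutatorElement

universe u

variable {G : Type u} [Group G] [Finite G]

/-- The automorphism group of the symplectic group. -/
abbrev AutX : Type := MulAut (Cfsg.PSp 2 (ZMod 3))

theorem card_autX : Nat.card AutX = 51840 := by
  haveI : Fact (Nat.Prime 3) := ⟨Nat.prime_three⟩
  rw [S3342Id.card_mulAut_psp3 (ZMod.card 3), card_X]

theorem center_X : center (Cfsg.PSp 2 (ZMod 3)) = ⊥ := by
  haveI := simple_X
  refine (inferInstance : (center (Cfsg.PSp 2 (ZMod 3))).Normal).eq_bot_or_eq_top.resolve_right fun h => ?_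
  letI : CommGroup (Cfsg.PSp 2 (ZMod 3)) := { (inferInstance : Group (Cfsg.PSp 2 (ZMod 3))) with
    mul_comm := fun x y => mem_center_iff.1 (h ▸ mem_top y) x }
  have h1 := IsSimpleGroup.prime_card (α := Cfsg.PSp 2 (ZMod 3))
  rw [card_X] at h1
  norm_num at h1

theorem conj_injective : Function.Injective (MulAut.conj : Cfsg.PSp 2 (ZMod 3) →* AutX) := by
  refine (injective_iff_map_eq_one _).2 fun x hx => ?_
  rw [← mem_bot, ← center_X, mem_center_iff]
  intro y
  have := DFunLike.congr_fun hx y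
  rw [MulAut.conj_apply] at this
  exact (mul_inv_eq_iff_eq_mul.1 this).symm

/-- A normal subgroup of the automorphism group whose elements commute is trivial. -/
theorem eq_bot_of_comm {N : Subgroup AutX} [N.Normal] (h : ∀ x ∈ N, ∀ y ∈ N, x * y = y * x) : N = ⊥ := by
  haveI := simple_X
  have hbot : N.comap MulAut.conj = ⊥ := by
    refine (inferInstance : (N.comap MulAut.conj).Normal).eq_bot_or_eq_top.resolve_right fun htop => ?_
    letI : CommGroup (Cfsg.PSp 2 (ZMod 3)) := { (inferInstance : Group (Cfsg.PSp 2 (ZMod 3))) with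
      mul_comm := fun x y => conj_injective (by
        rw [map_mul, map_mul]
        exact h _ (mem_comap.1 (htop ▸ mem_top x)) _ (mem_comap.1 (htop ▸ mem_top y))) }
    have h1 := IsSimpleGroup.prime_card (α := Cfsg.PSp 2 (ZMod 3))
    rw [card_X] at h1
    norm_num at h1
  refine (Subgroup.eq_bot_iff_forall _).2 fun β hβ => MulEquiv.ext fun x => ?_
  have h1 : β * MulAut.conj x * β⁻¹ = MulAut.conj (β x) := MulEquiv.ext fun y => by
    simp only [MulAut.mul_apply, MulAut.conj_apply, map_mul, map_inv, MulAut.apply_inv_self]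
  have h2 : β x * x⁻¹ ∈ N.comap MulAut.conj := by
    rw [mem_comap, map_mul, ← h1, map_inv, mul_assoc β, mul_assoc β]
    exact mul_mem hβ ((inferInstance : N.Normal).conj_mem _ (inv_mem hβ) _)
  rw [hbot, mem_bot] at h2
  simpa using mul_inv_eq_one.1 h2

/-- The automorphism group on the 2-core modulo its centre. -/
structure ASpace (z : G) (V : Type u) [AddCommGroup V] extends Proj (coreAt z) z V where
  xs : XSLocal (coreAt z) z
  card : Nat.card (coreAt z) = 512
  char : ∀ v : V, v + v = 0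
  cardV : Nat.card V = 256
  /-- The map of the centralizer to the symplectic group. -/
  χ : ↥(centralizer ({z} : Set G)) →* AutX
  χ_surj : ∀ x, ∃ g, χ g = x
  χ_eq_one : ∀ g, χ g = 1 ↔ (g : G) ∈ coreAt z
  /-- The action of the symplectic group. -/
  ρ : AutX →* AddMonoid.End V
  ρ_inj : Function.Injective ρ
  ρ_π : ∀ (g : ↥(centralizer ({z} : Set G))) (a : G), a ∈ coreAt z → ρ (χ g) (π a) = π ((g : G) * a * (g : G)⁻¹)
  /-- The quadratic form. -/
  q : V → ZMod 2
  /-- Its polar. -/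
  B : V → V → ZMod 2
  q_π : ∀ a ∈ coreAt z, q (π a) = bit (a * a)
  B_π : ∀ a ∈ coreAt z, ∀ b ∈ coreAt z, B (π a) (π b) = bit ⁅a, b⁆
  hq : ∀ v w, q (v + w) = q v + q w + B v w
  hB : ∀ u v w, B (u + v) w = B u w + B v w
  hnd : ∀ v, v ≠ 0 → ∃ w, B v w ≠ 0
  q_inv : ∀ x v, q (ρ x v) = q v

set_option maxHeartbeats 800000 in
/-- The space from the hypotheses. -/
theorem exists_aspace {z : G} (hz : orderOf z = 2) {F : Type*} [Field F] [Fintype F] (hF : Fintype.card F = 3)
    (hJ : Cfsg.IsExtraspecial 2 ↥(Cfsg.pCore 2 ↥(centralizer ({z} : Set G))))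
    (hJc : Nat.card ↥(Cfsg.pCore 2 ↥(centralizer ({z} : Set G))) = 2 ^ 9)
    (hCJ : centralizer ((Cfsg.pCore 2 ↥(centralizer ({z} : Set G))) : Set ↥(centralizer ({z} : Set G))) ≤
      Cfsg.pCore 2 ↥(centralizer ({z} : Set G)))
    [hJn : (Cfsg.pCore 2 ↥(centralizer ({z} : Set G))).Normal]
    (e : (↥(centralizer ({z} : Set G)) ⧸ Cfsg.pCore 2 ↥(centralizer ({z} : Set G))) ≃* MulAut (Cfsg.PSp 2 F)) :
    ∃ (V : Type u) (_ : AddCommGroup V), Nonempty (ASpace z V) := by
  classical
  set C := centralizer ({z} : Set G) with hC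
  set Q0 := Cfsg.pCore 2 ↥C with hQ0
  -- the local structure
  have hzC : z ∈ C := mem_centralizer_one.2 rfl
  have hzQ0 : (⟨z, hzC⟩ : C) ∈ Q0 :=
    hCJ (mem_centralizer_iff.2 fun q _ => Subtype.ext (mem_centralizer_one.1 q.2))
  let eq : ↥Q0 ≃* ↥(coreAt z) := equivMapOfInjective _ _ C.subtype_injective
  have hQE : Cfsg.IsExtraspecial 2 ↥(coreAt z) := Qd.isExtraspecial_congr eq.symm hJ
  have hxs : XSLocal (coreAt z) z := by
    refine XSLocal.of_core hz hQE ⟨_, hzQ0, rfl⟩ (coreAt_le z) (fun c hc => ?_) (coreAt_normal z)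
    have hcC : c ∈ C := mem_centralizer_one.2 (mem_centralizer_iff.1 hc z ⟨_, hzQ0, rfl⟩).symm
    exact ⟨⟨c, hcC⟩, hCJ (mem_centralizer_iff.2 fun f hf =>
      Subtype.ext (mem_centralizer_iff.1 hc f ⟨f, hf, rfl⟩)), rfl⟩
  have hX := hxs.toXSub
  have hcard : Nat.card (coreAt z) = 512 := by rw [← Nat.card_congr eq.toEquiv, hJc]; norm_num
  obtain ⟨V, iV, ⟨p⟩⟩ := exists_proj hX
  letI := iV
  set Q := coreAt z with hQ
  have hzQ : z ∈ Q := hX.mem
  have hπz : p.π z = 0 := by
    have h1 : p.π 1 = 0 := by simpa using p.mul 1 (one_mem Q) 1 (one_mem Q)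
    rw [← h1, eq_comm]
    exact (p.eq_iff 1 (one_mem Q) z hzQ).2 (Or.inr (one_mul z).symm)
  have hπ1 : p.π 1 = 0 := by simpa using p.mul 1 (one_mem Q) 1 (one_mem Q)
  have hπ0 : ∀ a ∈ Q, p.π a = 0 → a = 1 ∨ a = z := fun a ha h => by
    have := (p.eq_iff 1 (one_mem Q) a ha).1 (hπ1.trans h.symm)
    simpa using this
  have hconjQ : ∀ g ∈ C, ∀ a ∈ Q, g * a * g⁻¹ ∈ Q := fun g hg a ha => conj_mem (coreAt_normal z hg) ha
  have hwd : ∀ g ∈ C, ∀ a ∈ Q, ∀ b ∈ Q, p.π a = p.π b → p.π (g * a * g⁻¹) = p.π (g * b * g⁻¹) := by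
    intro g hg a ha b hb h
    refine (p.eq_iff _ (hconjQ g hg a ha) _ (hconjQ g hg b hb)).2 ?_
    rcases (p.eq_iff a ha b hb).1 h with rfl | rfl
    · exact Or.inl rfl
    · right
      have hgz : z * g⁻¹ = g⁻¹ * z := (Commute.inv_left (mem_centralizer_one.1 hg : Commute g z)).eq.symm
      simp only [mul_assoc, hgz]
  -- the action
  let sec : V → G := fun v => (p.surj v).choose
  have hsec : ∀ v, sec v ∈ Q ∧ p.π (sec v) = v := fun v => (p.surj v).choose_spec
  have hact : ∀ g ∈ C, ∀ a ∈ Q, p.π (g * sec (p.π a) * g⁻¹) = p.π (g * a * g⁻¹) := fun g hg a ha =>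
    hwd g hg _ (hsec _).1 a ha (hsec _).2
  let act : ↥C →* AddMonoid.End V :=
    { toFun := fun g => AddMonoidHom.mk' (fun v => p.π (g * sec v * (g : G)⁻¹)) fun v w => by
        obtain ⟨a, ha, rfl⟩ := p.surj v
        obtain ⟨b, hb, rfl⟩ := p.surj w
        rw [← p.mul a ha b hb, hact g g.2 _ (mul_mem ha hb), hact g g.2 a ha, hact g g.2 b hb,
          ← p.mul _ (hconjQ g g.2 a ha) _ (hconjQ g g.2 b hb)]
        congr 1
        group
      map_one' := DFunLike.ext _ _ fun v => by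
        show p.π (((1 : C) : G) * sec v * ((1 : C) : G)⁻¹) = v
        simp [(hsec v).2]
      map_mul' := fun g h => DFunLike.ext _ _ fun v => by
        show p.π (((g * h : C) : G) * sec v * ((g * h : C) : G)⁻¹) =
          p.π ((g : G) * sec (p.π ((h : G) * sec v * (h : G)⁻¹)) * (g : G)⁻¹)
        rw [hact g g.2 _ (hconjQ h h.2 _ (hsec v).1), coe_mul]
        congr 1
        group }
  have act_π : ∀ (g : C) (a : G), a ∈ Q → act g (p.π a) = p.π ((g : G) * a * (g : G)⁻¹) :=
    fun g a ha => hact g g.2 a ha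
  have hker : Q0 ≤ act.ker := fun q hq => by
    refine DFunLike.ext _ _ fun v => ?_
    obtain ⟨a, ha, rfl⟩ := p.surj v
    rw [act_π q a ha]
    show p.π ((q : G) * a * (q : G)⁻¹) = p.π a
    have hqQ : (q : G) ∈ Q := ⟨q, hq, rfl⟩
    exact (p.eq_iff _ (hconjQ q q.2 a ha) a ha).2 (by
      rcases hX.conj_cases hqQ ha with h | h <;> rw [h]
      · exact Or.inl rfl
      · right; rw [mul_assoc, hX.sq, mul_one])
  -- the quotient
  haveI : Fact (Nat.Prime 3) := ⟨Nat.prime_three⟩
  obtain ⟨eF⟩ := S3342Id.nonempty_pspCongr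
    (K := F) (F := ZMod 3) (Classical.choice (show Nonempty (F ≃+* ZMod 3) from
      ⟨(ZMod.ringEquivOfPrime F (by norm_num) hF).symm⟩))
  let eX := e.trans (MulAut.congr eF)
  let χ : ↥C →* AutX := eX.toMonoidHom.comp (QuotientGroup.mk' Q0)
  have χ_surj : ∀ x, ∃ g, χ g = x := fun x => by
    obtain ⟨g, hg⟩ := QuotientGroup.mk_surjective (eX.symm x)
    exact ⟨g, (congrArg eX hg).trans (eX.apply_symm_apply x)⟩
  have χ_one : ∀ g : C, χ g = 1 ↔ (g : G) ∈ Q := fun g => by
    show eX (QuotientGroup.mk g) = 1 ↔ _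
    rw [MulEquiv.map_eq_one_iff, QuotientGroup.eq_one_iff]
    exact ⟨fun h => ⟨g, h, rfl⟩, fun ⟨k, hk, ek⟩ => (Subtype.ext ek : k = g) ▸ hk⟩
  let ρ : AutX →* AddMonoid.End V :=
    (QuotientGroup.lift Q0 act hker).comp eX.symm.toMonoidHom
  have ρ_eq : ∀ g : C, ρ (χ g) = act g := fun g => by
    show QuotientGroup.lift Q0 act hker (eX.symm (eX (QuotientGroup.mk g))) = act g
    rw [eX.symm_apply_apply]
    rfl
  have hVc : Nat.card V = 256 := by
    have hf : ∀ v : V, {a : Q | p.π (a : G) = v}.ncard = 2 := fun v => by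
      obtain ⟨a, ha, rfl⟩ := p.surj v
      have : {b : Q | p.π (b : G) = p.π a} = {⟨a, ha⟩, ⟨a * z, mul_mem ha hzQ⟩} := by
        ext b
        simp only [Set.mem_ofPred_eq, Set.mem_insert_iff, Set.mem_singleton_iff, Subtype.ext_iff]
        rw [eq_comm, p.eq_iff a ha b b.2]
      rw [this, Set.ncard_pair fun h => hX.ne_mul_z a (congrArg Subtype.val h)]
    haveI : Finite V := Finite.of_surjective (fun a : Q => p.π (a : G))
      fun v => (p.surj v).elim fun a h => ⟨⟨a, h.1⟩, h.2⟩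
    haveI := Fintype.ofFinite V
    haveI := Fintype.ofFinite Q
    have := Finset.card_eq_sum_card_fiberwise (f := fun a : Q => p.π (a : G))
      (s := (Finset.univ : Finset Q)) (t := (Finset.univ : Finset V)) fun _ _ => Finset.mem_univ _
    have hf' : ∀ v : V, (Finset.univ.filter fun a : Q => p.π (a : G) = v).card = 2 := fun v => by
      rw [← Set.ncard_coe_finset]
      exact (congrArg Set.ncard (by ext x; simp)).trans (hf v)
    simp only [hf', Finset.sum_const, smul_eq_mul, Finset.card_univ, ← Nat.card_eq_fintype_card, hcard] at this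
    omega
  have hchar : ∀ v : V, v + v = 0 := fun v => by
    obtain ⟨a, ha, rfl⟩ := p.surj v
    rw [← p.mul a ha a ha]
    rcases hX.sq_cases ha with h | h <;> rw [h]
    exacts [hπ1, hπz]
  haveI : Finite V := Nat.finite_of_card_ne_zero (by rw [hVc]; norm_num)
  have hinj : Function.Injective ρ := by
    rw [← MonoidHom.ker_eq_bot_iff]
    refine eq_bot_of_comm fun x hx y hy => ?_
    obtain ⟨g₀, rfl⟩ := χ_surj x
    obtain ⟨h₀, rfl⟩ := χ_surj y
    have hsign : ∀ g : C, ρ (χ g) = 1 → ∀ a ∈ Q, ∃ ε, (ε = 1 ∨ ε = z) ∧ (g : G) * a * (g : G)⁻¹ = a * ε := fun g h1 a ha => by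
      rw [ρ_eq] at h1
      have h2 := act_π g a ha
      rw [h1] at h2
      rcases (p.eq_iff a ha _ (hconjQ g g.2 a ha)).1 h2 with h | h
      · exact ⟨1, Or.inl rfl, by rw [mul_one]; exact h⟩
      · exact ⟨z, Or.inr rfl, h⟩
    have hεc : ∀ (g : C) (ε : G), ε = 1 ∨ ε = z → (g : G) * ε * (g : G)⁻¹ = ε := fun g ε hε => by
      rcases hε with rfl | rfl
      · group
      · rw [mem_centralizer_one.1 g.2, mul_inv_cancel_right]
    have habel : ∀ g h : C, ρ (χ g) = 1 → ρ (χ h) = 1 → χ g * χ h = χ h * χ g := fun g h hg hh => by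
      rw [← inv_mul_eq_one, ← map_mul, ← map_mul, ← map_inv, ← map_mul, χ_one]
      refine ⟨(g * h)⁻¹ * (h * g), hCJ (mem_centralizer_iff.2 fun f hf => Subtype.ext ?_), rfl⟩
      have hfQ : (f : G) ∈ Q := ⟨f, hf, rfl⟩
      obtain ⟨a, ha, e1⟩ := hsign g hg f hfQ
      obtain ⟨b, hb, e2⟩ := hsign h hh f hfQ
      have hab : a * b = b * a := by
        rcases ha with rfl | rfl <;> rcases hb with rfl | rfl <;> simp
      have k1 : (g : G) * h * f * ((g : G) * h)⁻¹ = (f : G) * a * b := by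
        calc (g : G) * h * f * ((g : G) * h)⁻¹ = g * ((h : G) * f * (h : G)⁻¹) * (g : G)⁻¹ := by group
          _ = g * f * (g : G)⁻¹ * (g * b * (g : G)⁻¹) := by rw [e2]; group
          _ = f * a * b := by rw [e1, hεc g b hb]
      have k2 : (h : G) * g * f * ((h : G) * g)⁻¹ = (f : G) * a * b := by
        calc (h : G) * g * f * ((h : G) * g)⁻¹ = h * ((g : G) * f * (g : G)⁻¹) * (h : G)⁻¹ := by group
          _ = h * f * (h : G)⁻¹ * (h * a * (h : G)⁻¹) := by rw [e1]; group
          _ = f * a * b := by rw [e2, hεc h a ha, mul_assoc, ← hab, mul_assoc]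
      show (f : G) * (((g : G) * h)⁻¹ * (h * g)) = ((g : G) * h)⁻¹ * (h * g) * f
      refine (mul_inv_eq_iff_eq_mul.1 (?_ : ((g : G) * h)⁻¹ * (h * g) * f * (((g : G) * h)⁻¹ * (h * g))⁻¹ = f)).symm
      calc ((g : G) * h)⁻¹ * (h * g) * f * (((g : G) * h)⁻¹ * (h * g))⁻¹
          = ((g : G) * h)⁻¹ * ((h : G) * g * f * ((h : G) * g)⁻¹) * ((g : G) * h) := by group
        _ = f := by rw [k2, ← k1]; group
    exact habel g₀ h₀ (MonoidHom.mem_ker.1 hx) (MonoidHom.mem_ker.1 hy)
  -- the form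
  let q : V → ZMod 2 := fun v => bit (sec v * sec v)
  let B : V → V → ZMod 2 := fun v w => bit ⁅sec v, sec w⁆
  have q_π : ∀ a ∈ Q, q (p.π a) = bit (a * a) := fun a ha => by
    show bit (sec (p.π a) * sec (p.π a)) = _
    rcases (p.eq_iff a ha _ (hsec _).1).1 (hsec _).2.symm with h | h <;> rw [h]
    have : a * z * (a * z) = a * a := by
      rw [mul_assoc, ← mul_assoc z, ← hX.comm ha, mul_assoc a z z, hX.sq, mul_one]
    rw [this]
  have B_π : ∀ a ∈ Q, ∀ b ∈ Q, B (p.π a) (p.π b) = bit ⁅a, b⁆ := fun a ha b hb => by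
    show bit ⁅sec (p.π a), sec (p.π b)⁆ = _
    have hza : ∀ {x : G}, x ∈ Q → z * x = x * z := fun hx => (hX.comm hx).symm
    have l1 : ∀ x ∈ Q, ∀ y ∈ Q, ⁅x * z, y⁆ = ⁅x, y⁆ := fun x hx y hy => by
      have e1 : z * y * z⁻¹ = y := by rw [hza hy, mul_inv_cancel_right]
      rw [commutatorElement_def, commutatorElement_def,
        show x * z * y * (x * z)⁻¹ * y⁻¹ = x * (z * y * z⁻¹) * x⁻¹ * y⁻¹ from by group, e1]
    have l2 : ∀ x ∈ Q, ∀ y ∈ Q, ⁅x, y * z⁆ = ⁅x, y⁆ := fun x hx y hy => by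
      rw [← commutatorElement_inv, l1 y hy x hx, commutatorElement_inv]
    rcases (p.eq_iff a ha _ (hsec _).1).1 (hsec _).2.symm with h | h <;>
      rcases (p.eq_iff b hb _ (hsec _).1).1 (hsec _).2.symm with h' | h' <;> rw [h, h']
    · rw [l2 a ha b hb]
    · rw [l1 a ha b hb]
    · rw [l1 a ha _ (mul_mem hb hzQ), l2 a ha b hb]
  have hcz : ∀ {c : G}, c = 1 ∨ c = z → ∀ x ∈ Q, c * x = x * c := fun hc x hx => by
    rcases hc with rfl | rfl
    · simp
    · exact (hX.comm hx).symm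
  have hq : ∀ v w, q (v + w) = q v + q w + B v w := by
    intro v w
    obtain ⟨a, ha, rfl⟩ := p.surj v
    obtain ⟨b, hb, rfl⟩ := p.surj w
    rw [← p.mul a ha b hb, q_π _ (mul_mem ha hb), q_π a ha, q_π b hb, B_π a ha b hb]
    have hc := hX.comm_cases hb ha
    have e1 : a * b * (a * b) = ⁅b, a⁆ * (a * a) * (b * b) := by
      rw [show a * b * (a * b) = a * (⁅b, a⁆ * a * b) * b from by rw [commutatorElement_def]; group,
        show a * (⁅b, a⁆ * a * b) * b = a * ⁅b, a⁆ * a * (b * b) from by group, ← hcz hc a ha]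
      group
    have e2 : bit ⁅b, a⁆ = bit ⁅a, b⁆ := by
      rw [← commutatorElement_inv a b]
      rcases hX.comm_cases ha hb with h | h <;> rw [h]
      · rw [inv_one]
      · rw [hX.inv_eq]
    have hsa := hX.sq_cases ha
    have hsb := hX.sq_cases hb
    rw [e1, bit_mul hX.sq hX.ne_one ?_ hsb, bit_mul hX.sq hX.ne_one hc hsa, e2]
    · abel
    · rcases hc with h | h <;> rcases hsa with h' | h' <;> rw [h, h'] <;> simp [hX.sq]
  have hB : ∀ u v w, B (u + v) w = B u w + B v w := by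
    intro u v w
    obtain ⟨a, ha, rfl⟩ := p.surj u
    obtain ⟨b, hb, rfl⟩ := p.surj v
    obtain ⟨c, hc, rfl⟩ := p.surj w
    rw [← p.mul a ha b hb, B_π _ (mul_mem ha hb) c hc, B_π a ha c hc, B_π b hb c hc,
      show ⁅a * b, c⁆ = a * ⁅b, c⁆ * a⁻¹ * ⁅a, c⁆ from by simp only [commutatorElement_def]; group,
      ← hcz (hX.comm_cases hb hc) a ha, mul_inv_cancel_right,
      bit_mul hX.sq hX.ne_one (hX.comm_cases hb hc) (hX.comm_cases ha hc), add_comm]
  have hnd : ∀ v, v ≠ 0 → ∃ w, B v w ≠ 0 := by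
    intro v hv
    obtain ⟨a, ha, rfl⟩ := p.surj v
    obtain ⟨c, hc, hconj⟩ := hX.exists_conj ha (fun h => hv (h ▸ hπ1)) (fun h => hv (h ▸ hπz))
    refine ⟨p.π c, ?_⟩
    rw [B_π a ha c hc]
    intro h
    have h1 := commutatorElement_eq_one_iff_mul_comm.1 (bit_eq_zero.1 h)
    rw [← h1, mul_inv_cancel_right] at hconj
    exact hX.ne_mul_z a hconj
  refine ⟨V, iV, ⟨{
    toProj := p, xs := hxs, card := hcard, char := hchar, cardV := hVc, χ := χ,
    χ_surj := χ_surj, χ_eq_one := χ_one, ρ := ρ, ρ_inj := hinj, ρ_π := fun g a ha => ?_, q := q, B := B,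
    q_π := q_π, B_π := B_π, hq := hq, hB := hB, hnd := hnd, q_inv := fun x v => ?_ }⟩⟩
  · rw [ρ_eq]
    exact act_π g a ha
  · obtain ⟨a, ha, rfl⟩ := p.surj v
    obtain ⟨g, rfl⟩ := χ_surj x
    rw [ρ_eq, act_π g a ha, q_π _ (hconjQ g g.2 a ha), q_π a ha,
      show (g : G) * a * (g : G)⁻¹ * ((g : G) * a * (g : G)⁻¹) = (g : G) * (a * a) * (g : G)⁻¹ from by group]
    rcases hX.sq_cases ha with h | h <;> rw [h]
    · simp
    · rw [mem_centralizer_one.1 g.2, mul_inv_cancel_right]

namespace ASpace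

variable {z : G} {V : Type u} [AddCommGroup V] (S : ASpace z V)

/-- The action of the inner automorphisms. -/
noncomputable def inn : Cfsg.PSp 2 (ZMod 3) →* AddMonoid.End V := S.ρ.comp MulAut.conj

theorem inn_injective : Function.Injective S.inn := S.ρ_inj.comp conj_injective

/-- The six maps. -/
noncomputable def gen (j : Fin 6) : AddMonoid.End V := S.inn (gx j)

theorem six : Forced.Six S.gen := by
  have hev : ∀ w, Forced.ev S.gen w = S.inn (w.map gx).prod := fun w => by
    rw [map_list_prod, List.map_map]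
    rfl
  exact ⟨S.char, S.cardV, fun r hr => by rw [hev, hev, gx_rel r hr], 0, by norm_num, fun h =>
    gx_zero_ne (S.inn_injective (h.trans (map_one S.inn).symm))⟩

theorem finite (S : ASpace z V) : Finite V := Nat.finite_of_card_ne_zero (by rw [S.cardV]; norm_num)

theorem ρ_inv (x : AutX) (v : V) : S.ρ x⁻¹ (S.ρ x v) = v := by
  show (S.ρ x⁻¹ * S.ρ x) v = v
  rw [← map_mul, inv_mul_cancel, map_one]
  rfl

theorem inn_inv (x : Cfsg.PSp 2 (ZMod 3)) (v : V) : S.inn x⁻¹ (S.inn x v) = v := by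
  show S.ρ (MulAut.conj x⁻¹) (S.ρ (MulAut.conj x) v) = v
  rw [map_inv]
  exact S.ρ_inv _ v

/-- An invariant subgroup of order four is fixed pointwise. -/
theorem fixed_four (W : AddSubgroup V) (hW : Nat.card W = 4) (hinv : ∀ j, ∀ v ∈ W, S.gen j v ∈ W) :
    ∀ x, ∀ v ∈ W, S.inn x v = v := by
  haveI := simple_X
  haveI : Finite W := Nat.finite_of_card_ne_zero (by rw [hW]; norm_num)
  let K : Subgroup (Cfsg.PSp 2 (ZMod 3)) :=
    { carrier := {x | ∀ v ∈ W, S.inn x v ∈ W}
      one_mem' := fun v hv => by rw [map_one]; exact hv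
      mul_mem' := fun {x y} hx hy v hv => by rw [map_mul]; exact hx _ (hy v hv)
      inv_mem' := fun {x} hx v hv => by
        have hi : Function.Injective (fun w : W => (⟨S.inn x w, hx w w.2⟩ : W)) := fun a b h => by
          have h' := congrArg (fun t : W => S.inn x⁻¹ (t : V)) h
          change S.inn x⁻¹ (S.inn x a) = S.inn x⁻¹ (S.inn x b) at h'
          exact Subtype.ext (by rwa [S.inn_inv, S.inn_inv] at h')
        obtain ⟨w, hw⟩ := (Finite.injective_iff_surjective.1 hi) ⟨v, hv⟩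
        rw [← show S.inn x w = v from congrArg Subtype.val hw, S.inn_inv]
        exact w.2 }
  have hK : K = ⊤ := by
    rw [eq_top_iff, ← gx_top, Subgroup.closure_le]
    rintro _ ⟨j, rfl⟩
    exact hinv j
  let σ : Cfsg.PSp 2 (ZMod 3) →* Function.End W :=
    { toFun := fun x w => ⟨S.inn x w, (show x ∈ K by rw [hK]; trivial) w w.2⟩
      map_one' := funext fun w => Subtype.ext (by simp; rfl)
      map_mul' := fun x y => funext fun w => Subtype.ext (by simp; rfl) }
  rcases σ.normal_ker.eq_bot_or_eq_top with h | h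
  · haveI : Finite (Function.End W) := inferInstanceAs (Finite (W → W))
    have := Nat.card_le_card_of_injective _ ((MonoidHom.ker_eq_bot_iff σ).1 h)
    rw [card_X, show Nat.card (Function.End W) = Nat.card (W → W) from rfl, Nat.card_fun, hW] at this
    norm_num at this
  · intro x v hv
    have hσ : σ x = 1 := MonoidHom.mem_ker.1 (h ▸ Subgroup.mem_top _)
    exact congrArg Subtype.val (congrFun hσ ⟨v, hv⟩)

end ASpace

end Cfsg.Agent.U62Aut
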