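import Cfsg.Agent.Lib.U62Aut.Model.Data
import Cfsg.Agent.Lib.U62Rec.Model.Defs

/-! The field automorphism on the coded vectors. -/

set_option autoImplicit false

namespace Cfsg.Agent.U62Aut

open Cfsg.Agent.U62Rec.Model

/-- The field automorphism on the vectors. -/
def frC (v : ℕ) : ℕ := linC repCols1 v

end Cfsg.Agent.U62Aut
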