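import Cfsg.Agent.Lib.U62Aut.Model.Data
import Cfsg.Agent.Lib.U62Aut.Model.VecData
import Cfsg.Agent.Lib.U62Rec.Model.GeoChecks
import Cfsg.Agent.Lib.U62Rec.Model.LinChecks
import Cfsg.Agent.Lib.Compute.CentAut
import Cfsg.Agent.Lib.J2.Chain

/-!
Kernel checks on the field automorphism, the group it generates with the group on the 45 points and its
outer involutions.
-/

set_option autoImplicit false
set_option maxRecDepth 100000

namespace Cfsg.Agent.U62Aut

open Cfsg.Agent.PermCert Cfsg.Agent.U62Rec.Model

theorem aPt_cert : checkCert 6 45 aPtGens aPtDerived aPtLevels = true := by decide +kernel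
theorem aPt_order : certOrder aPtLevels = 51840 := by decide +kernel
theorem cen0_cert : checkCert 6 45 cen0Gens cen0Derived cen0Levels = true := by decide +kernel
theorem cen0_order : certOrder cen0Levels = 720 := by decide +kernel
theorem cen1_cert : checkCert 6 45 cen1Gens cen1Derived cen1Levels = true := by decide +kernel
theorem cen1_order : certOrder cen1Levels = 48 := by decide +kernel

/-- A generator followed by the field automorphism on both sides. -/
def frGen (j v : ℕ) : ℕ := frC (linC (colsOf j) (frC v))

/-- The field automorphism. -/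
def frOK : Bool :=
  validElt 6 45 frElt &&
  allBelow (fun v => Nat.blt (frC v) 256 && Nat.beq (frC (frC v)) v && Nat.beq (q0 (frC v)) (q0 v) &&
    Nat.beq (frC (omC v)) (omC (omC (frC v)))) 256 &&
  allBelow (fun p => singB (frC (repC p)) && Nat.beq (get 6 frElt.1 p) (ptIdx (frC (repC p))) &&
    Nat.beq (comp 6 45 (comp 6 45 frElt.1 (tvElt p).1) frElt.2) (tvElt (get 6 frElt.1 p)).1 &&
    allBelow (fun q => adjB (get 6 frElt.1 p) (get 6 frElt.1 q) == adjB p q) 45) 45 &&
  allBelow (fun j => sift 8 256 linLevels (pack 8 (frGen j) 256) &&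
    sift 6 45 ptLevels (comp 6 45 (comp 6 45 frElt.1 (ptElt j).1) frElt.2)) 6 &&
  Nat.beq (canon (comp 6 45 frElt.1 frElt.1)) (canon (idCode 6 45)) &&
  Nat.beq frC1 (canon frElt.1) && Nat.beq aPtGens.length 7
where
  /-- The second representative. -/
  frC1 : ℕ := canon (repPts.getD 1 (0, 0)).1

theorem fr_ok : frOK = true := by decide +kernel

/-- The outer element over an element of the Sylow 2-subgroup. -/
def outE (i : ℕ) : Elt := mul 6 45 fSyl (sylE i)

/-- Fixed points of a code. -/
def nfix (a : ℕ) : ℕ := (List.range 45).countP fun p => Nat.beq (get 6 a p) p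

/-- The Sylow 2-subgroup of the larger group, with the classes of its outer involutions. -/
def outOK : Bool :=
  validElt 6 45 fSyl && sift 6 45 ptLevels (comp 6 45 frElt.1 fSyl.1) &&
  Nat.beq (canon (comp 6 45 fSyl.1 fSyl.1)) (canon (idCode 6 45)) &&
  Nat.beq (canon (comp 6 45 fSyl.1 (tvElt 15).1)) (canon (comp 6 45 (tvElt 15).1 fSyl.1)) &&
  allBelow (fun i => sylPts.any fun c =>
    Nat.beq (canon c.1) (canon (comp 6 45 (comp 6 45 fSyl.1 (sylE i).1) fSyl.2))) 64 &&
  allBelow (fun i => let c := outConj.getD i (0, (0, 0))
    !Nat.beq (canon (comp 6 45 (outE i).1 (outE i).1)) (canon (idCode 6 45)) ||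
      (Nat.blt c.1 2 && validElt 6 45 c.2 && sift 6 45 ptLevels c.2.1 &&
        Nat.beq (canon (outE i).1) (canon (comp 6 45 (comp 6 45 c.2.1 (repPts.getD c.1 (0, 0)).1) c.2.2)) &&
        Nat.beq (nfix (outE i).1) (bif Nat.beq c.1 0 then 15 else 7) &&
        Nat.ble ((List.range 64).countP fun j =>
          Nat.beq (canon (comp 6 45 (sylE j).1 (sylE j).1)) (canon (idCode 6 45)) &&
            Nat.beq (canon (comp 6 45 (sylE j).1 (outE i).1)) (canon (comp 6 45 (outE i).1 (sylE j).1))) 15)) 64

theorem out_ok : outOK = true := by decide +kernel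

/-- Squares in the group of the transvection. -/
def sqB (a : ℕ) : Bool :=
  Nat.beq (canon (comp 6 45 a a)) (canon (idCode 6 45)) || Nat.beq (canon (comp 6 45 a a)) (canon (tvElt 15).1)

/-- Outer elements with square in the group of the transvection. -/
def smallOK : Bool :=
  allBelow (fun i => !sqB (outE i).1 || Nat.ble ((List.range 64).countP fun j =>
    sqB (sylE j).1 && sqB (comp 6 45 (outE i).1 (sylE j).1)) 15) 64

theorem small_ok : smallOK = true := by decide +kernel

/-- The two representatives. -/
def repsAutOK : Bool :=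
  (repPts.all fun r => validElt 6 45 r && Nat.beq (canon (comp 6 45 r.1 r.1)) (canon (idCode 6 45)) &&
    sift 6 45 ptLevels (comp 6 45 frElt.1 r.1)) && Nat.beq repPts.length 2 &&
  Nat.beq (nfix (repPts.getD 0 (0, 0)).1) 15 && Nat.beq (nfix (repPts.getD 1 (0, 0)).1) 7 &&
  (cen0Gens.all fun g => sift 6 45 ptLevels g.1 &&
    Nat.beq (canon (comp 6 45 g.1 (repPts.getD 0 (0, 0)).1)) (canon (comp 6 45 (repPts.getD 0 (0, 0)).1 g.1))) &&
  (cen1Gens.all fun g => sift 6 45 ptLevels g.1 &&
    Nat.beq (canon (comp 6 45 g.1 (repPts.getD 1 (0, 0)).1)) (canon (comp 6 45 (repPts.getD 1 (0, 0)).1 g.1)))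

theorem repsAut_ok : repsAutOK = true := by decide +kernel

/-- Three pairwise orthogonal transvections, one and two transvections: fixed points. -/
def farOK : Bool :=
  allBelow (fun p =>
    allBelow (fun s => !Nat.beq (get 6 (tvElt p).1 s) s || Nat.beq s p || adjB p s) 45 &&
    allBelow (fun q => !adjB p q ||
      (Nat.ble ((List.range 45).countP fun s => Nat.beq (get 6 (comp 6 45 (tvElt p).1 (tvElt q).1) s) s) 5 &&
        (List.range 45).any (fun r => adjB p r && adjB q r) &&
        allBelow (fun r => !(adjB p r && adjB q r) ||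
          let m := comp 6 45 (comp 6 45 (tvElt p).1 (tvElt q).1) (tvElt r).1
          allBelow (fun s => !Nat.beq (get 6 m s) s || Nat.beq s p || adjB p s) 45) 45)) 45) 45

theorem far_ok : farOK = true := by decide +kernel

/-- Fixed points of transvections and of products. -/
def invFixOK : Bool :=
  (tvPts.all fun e => Nat.beq (nfix e.1) 13) && prodPts.all fun e => Nat.beq (nfix e.1) 5

theorem invFix_ok : invFixOK = true := by decide +kernel

theorem cen_search :
    CentAut.centAll 6 45 [(repPts.getD 1 (0, 0)).1] (repPts.getD 1 (0, 0)).1 (cenList.map Prod.fst) ptLevels [] [] =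
      true := by
  decide +kernel

/-- A member of the centraliser of the second representative in either coset. -/
def cenE (i : ℕ) : ℕ :=
  bif Nat.blt i 48 then canon (cenList.getD i (0, 0)).1
  else canon (comp 6 45 (repPts.getD 1 (0, 0)).1 (cenList.getD (i - 48) (0, 0)).1)

/-- The involutions there. -/
def cenInv : List ℕ :=
  (List.range 96).filter fun i => Nat.beq (canon (comp 6 45 (cenE i) (cenE i))) (canon (idCode 6 45))

/-- Commuting. -/
def commB (a b : ℕ) : Bool := Nat.beq (canon (comp 6 45 a b)) (canon (comp 6 45 b a))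

/-- Good with good product by the representative. -/
def pairB (a : ℕ) : Bool :=
  let goodB := fun c => Nat.beq (nfix c) 5 || Nat.beq (nfix c) 15
  goodB a && goodB (comp 6 45 a (repPts.getD 1 (0, 0)).1)

/-- The subgroup of three commuting involutions. -/
def eight (a b : ℕ) : List ℕ :=
  let r := canon (repPts.getD 1 (0, 0)).1
  [canon (idCode 6 45), r, a, canon (comp 6 45 a r), b, canon (comp 6 45 b r), canon (comp 6 45 a b),
    canon (comp 6 45 (comp 6 45 a b) r)]

/-- The products with the subgroup. -/
def extB (e : List ℕ) (c : ℕ) : Bool := e.any fun x => pairB (comp 6 45 x c)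

/-- Elementary subgroups of the centraliser containing the representative. -/
def eightOK : Bool :=
  let r := canon (repPts.getD 1 (0, 0)).1
  let one := canon (idCode 6 45)
  let gens := cen1Gens
  let invl := cenInv.map cenE
  invl.all fun a => Nat.beq a one || Nat.beq a r || invl.all fun b =>
    [one, r, a, canon (comp 6 45 a r)].any (fun x => Nat.beq x b) || !commB a b ||
      let e := eight a b
      e.any pairB ||
        ((gens.any fun h => [a, b].any fun x =>
            let x' := canon (comp 6 45 (comp 6 45 h.1 x) h.2)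
            !commB x' a || !commB x' b || extB e x') &&
          invl.all fun c => e.any (fun x => Nat.beq x c) || !commB a c || !commB b c || extB e c)

theorem eight_ok : eightOK = true := by decide +kernel

end Cfsg.Agent.U62Aut
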