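import Cfsg.Agent.Lib.U62Aut.Model.VecData
import Cfsg.Agent.Lib.U62Rec.Model.LinChecks
import Cfsg.Agent.Lib.J2.Chain

/-!
Kernel checks on the semilinear maps of the 256 vectors: the stabiliser of a vector and the fixed vectors of
the outer involutions.
-/

set_option autoImplicit false
set_option maxRecDepth 100000

namespace Cfsg.Agent.U62Aut

open Cfsg.Agent.PermCert Cfsg.Agent.U62Rec.Model

/-- The elements of a list of products of the stabiliser of the chosen vector. -/
def stabProds : List (List ℕ) := J2.allProds stabLevels

/-- The conjugating elements. -/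
def stabPool : List Elt := stabGens ++ coreLin

/-- Equality of two functions below 256. -/
def same8 (f g : ℕ → ℕ) : Bool := allBelow (fun v => Nat.beq (f v) (g v)) 256

/-- An outer element over a product. -/
def outS (cs : List ℕ) (v : ℕ) : ℕ := frC (J2.applyCodes 8 cs v)

/-- Its conjugate. -/
def conjS (cs : List ℕ) (a : Elt) : ℕ := pack 8 (fun v => get 8 a.1 (outS cs (get 8 a.2 v))) 256

/-- The products of pairs. -/
def pairProds (l : List ℕ) : List ℕ := l.flatMap fun x => l.map fun y => comp 8 256 x y

/-- Five products of conjugates of every outer involution of the stabiliser. -/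
def stabOutOK : Bool :=
  Nat.beq (frC 5) 5 &&
  (stabPool.all fun a => validElt 8 256 a && sift 8 256 linLevels a.1 && Nat.beq (get 8 a.1 5) 5) &&
  (stabLevels.all fun l => Nat.blt l.1 256) &&
  stabProds.all fun cs => !same8 (fun v => outS cs (outS cs v)) id ||
    Nat.ble 5 (pairProds (((stabPool.take 10).map (conjS cs)).dedup.take 5)).dedup.length

/-- The last part of `stabOutOK` on 24 products. -/
def stabChunk (k : ℕ) : Bool :=
  ((stabProds.drop (24 * k)).take 24).all fun cs => !same8 (fun v => outS cs (outS cs v)) id ||
    Nat.ble 5 (pairProds (((stabPool.take 10).map (conjS cs)).dedup.take 5)).dedup.length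

-- the products are checked in small pieces to keep the memory of each check small
theorem stabChunk_ok0 : stabChunk 0 = true := by decide +kernel
theorem stabChunk_ok1 : stabChunk 1 = true := by decide +kernel
theorem stabChunk_ok2 : stabChunk 2 = true := by decide +kernel
theorem stabChunk_ok3 : stabChunk 3 = true := by decide +kernel
theorem stabChunk_ok4 : stabChunk 4 = true := by decide +kernel
theorem stabChunk_ok5 : stabChunk 5 = true := by decide +kernel
theorem stabChunk_ok6 : stabChunk 6 = true := by decide +kernel
theorem stabChunk_ok7 : stabChunk 7 = true := by decide +kernel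

/-- A property of all pieces of a list holds on the list. -/
theorem all_of_pieces {α : Type} {l : List α} {p : α → Bool} {m n : ℕ} (hm : 0 < m) (hl : l.length ≤ m * n)
    (h : ∀ k < n, ((l.drop (m * k)).take m).all p = true) : l.all p = true := by
  rw [List.all_eq_true]
  intro x hx
  obtain ⟨i, hi, rfl⟩ := List.mem_iff_getElem.1 hx
  have hk : i / m < n := (Nat.div_lt_iff_lt_mul hm).2 (by rw [mul_comm]; omega)
  refine List.all_eq_true.1 (h _ hk) _ ?_
  refine List.mem_iff_getElem.2 ⟨i % m, ?_, ?_⟩
  · have := Nat.mod_lt i hm
    have := Nat.div_add_mod i m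
    rw [List.length_take, List.length_drop]
    omega
  · simp only [List.getElem_take, List.getElem_drop, Nat.div_add_mod]

theorem stabProds_len : stabProds.length ≤ 24 * 8 := by decide +kernel

theorem stabHead_ok : (Nat.beq (frC 5) 5 &&
    (stabPool.all fun a => validElt 8 256 a && sift 8 256 linLevels a.1 && Nat.beq (get 8 a.1 5) 5) &&
    (stabLevels.all fun l => Nat.blt l.1 256)) = true := by decide +kernel

theorem stabOut_ok : stabOutOK = true := by
  rw [stabOutOK, stabHead_ok, Bool.true_and]
  refine all_of_pieces (by norm_num) stabProds_len fun k hk => ?_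
  change stabChunk k = true
  interval_cases k
  · exact stabChunk_ok0
  · exact stabChunk_ok1
  · exact stabChunk_ok2
  · exact stabChunk_ok3
  · exact stabChunk_ok4
  · exact stabChunk_ok5
  · exact stabChunk_ok6
  · exact stabChunk_ok7

/-- Vectors orthogonal to the line of the chosen one: an image outside the span. -/
def gapOK : Bool :=
  allBelow (fun x =>
    let w := omC 5
    let L := [0, 5, w, Nat.xor 5 w]
    L.any (fun l => Nat.beq l x) || !(Nat.beq (q0 x) 0 && Nat.beq (polC x 5) 0) ||
      stabPool.any fun g => Nat.beq (polC x (get 8 g.1 x)) 1 ||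
        !((spanFour 5 w x 0).any fun u => Nat.beq u (get 8 g.1 x))) 256

theorem gap_ok : gapOK = true := by decide +kernel

/-- A representative on the vectors. -/
def repC' (k v : ℕ) : ℕ := linC (bif Nat.beq k 0 then repCols0 else repCols1) v

/-- A centralising map, zero standing for the identity. -/
def rcC (k g v : ℕ) : ℕ :=
  bif Nat.beq g 0 then v else linC ((bif Nat.beq k 0 then repCent0 else repCent1).getD (g - 1) ([], [])).1 v

/-- Its code. -/
def rcElt (k g : ℕ) : Elt :=
  (pack 8 (rcC k g) 256, pack 8 (fun v =>
    bif Nat.beq g 0 then v else linC ((bif Nat.beq k 0 then repCent0 else repCent1).getD (g - 1) ([], [])).2 v) 256)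

/-- The facts about the fixed vectors of a representative. -/
def repFixOK (k : ℕ) : Bool :=
  allBelow (fun v => Nat.blt (repC' k v) 256 && Nat.beq (repC' k (repC' k v)) v) 256 &&
  allBelow (fun p => singB (repC' k (repC p)) &&
    Nat.beq (get 6 (repPts.getD k (0, 0)).1 p) (ptIdx (repC' k (repC p)))) 45 &&
  sift 8 256 linLevels (pack 8 (fun v => frC (repC' k v)) 256) &&
  allBelow (fun g => validElt 8 256 (rcElt k g) && sift 8 256 linLevels (rcElt k g).1 &&
    allBelow (fun v => Nat.blt (rcC k g v) 256 && Nat.beq (rcC k g (repC' k v)) (repC' k (rcC k g v))) 256) 4 &&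
  Nat.ble (bif Nat.beq k 0 then 16 else 8)
    ((List.range 256).countP fun x => Nat.beq (repC' k x) x && Nat.beq (q0 x) 0) &&
  allBelow (fun x => !Nat.beq (repC' k x) x ||
    (((List.range 256).any fun y => Nat.beq (Nat.xor y (repC' k y)) x) &&
    (!Nat.beq (q0 x) 0 || Nat.beq x 0 || (Nat.beq k 1 && Nat.beq x 85) ||
      (bif Nat.beq k 0 then repWit0 else repWit1).any fun (w, g, h, a, b) =>
        let sp := spanFour 0 x (rcC k g x) (rcC k h x)
        let u := Nat.xor a (repC' k a)
        let v := Nat.xor b (repC' k b)
        Nat.beq w x && Nat.blt g 4 && Nat.blt h 4 && Nat.blt a 256 && Nat.blt b 256 && !Nat.beq u 0 &&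
          !Nat.beq v 0 && !Nat.beq u v && Nat.beq (polC a v) 0 && (sp.any fun s => Nat.beq s u) &&
          sp.any fun s => Nat.beq s v))) 256

theorem repFix_ok0 : repFixOK 0 = true := by decide +kernel
theorem repFix_ok1 : repFixOK 1 = true := by decide +kernel

end Cfsg.Agent.U62Aut
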