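import Cfsg.Agent.Lib.U62Aut.Model.Checks
import Cfsg.Agent.Lib.U62Aut.Model.VecChecks
import Cfsg.Agent.Lib.U62Rec.Model.OtherFacts
import Cfsg.Agent.Lib.U62Rec.Model.PtFacts

/-!
The semilinear group on the 256 vectors and its faithful action on the 45 points.
-/

set_option autoImplicit false
set_option maxRecDepth 20000

namespace Cfsg.Agent.U62Aut

open Cfsg.Agent.PermCert Cfsg.Agent.U62Rec.Model

/-- Membership in a certified group from the code of the images. -/
theorem mem_of_sift {w n : ℕ} [NeZero n] {gens : List Elt} {derived : List (Elt × List ℕ)} {levels : List CLevel}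
    (h : checkCert w n gens derived levels = true) (σ : Equiv.Perm (Fin n)) {c : ℕ}
    (hc : ∀ i : Fin n, get w c i = (σ i : ℕ)) (hs : sift w n levels c = true) : σ ∈ genGroup w n gens := by
  have hn : n ≤ 2 ^ w := by
    simp only [checkCert, Bool.and_eq_true, Nat.ble_eq] at h
    exact h.1.1.1.1.1
  rw [J2.cert_prodSet h]
  refine sift_spec hn levels (J2.cert_allRep h) c
    (pack w (fun i => if hi : i < n then ((σ⁻¹ ⟨i, hi⟩ : Fin n) : ℕ) else 0) n) σ (fun i => ⟨hc i, ?_⟩) hs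
  rw [get_pack w _ n i i.2, dif_pos i.2]
  exact Nat.mod_eq_of_lt (lt_of_lt_of_le (Fin.is_lt _) hn)

theorem fr_facts : validElt 6 45 frElt = true ∧
    (∀ v < 256, frC v < 256 ∧ frC (frC v) = v ∧ q0 (frC v) = q0 v ∧ frC (omC v) = omC (omC (frC v))) ∧
    (∀ p < 45, singB (frC (repC p)) = true ∧ get 6 frElt.1 p = ptIdx (frC (repC p)) ∧
      comp 6 45 (comp 6 45 frElt.1 (tvElt p).1) frElt.2 = (tvElt (get 6 frElt.1 p)).1 ∧
      ∀ q < 45, adjB (get 6 frElt.1 p) (get 6 frElt.1 q) = adjB p q) ∧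
    (∀ j < 6, sift 8 256 linLevels (pack 8 (frGen j) 256) = true ∧
      sift 6 45 ptLevels (comp 6 45 (comp 6 45 frElt.1 (ptElt j).1) frElt.2) = true) ∧
    canon (comp 6 45 frElt.1 frElt.1) = canon (idCode 6 45) ∧
    frOK.frC1 = canon frElt.1 := by
  have h := fr_ok
  simp only [frOK, Bool.and_eq_true, Nat.beq_eq] at h
  obtain ⟨⟨⟨⟨⟨⟨h1, h2⟩, h3⟩, h4⟩, h5⟩, h6⟩, -⟩ := h
  refine ⟨h1, fun v hv => ?_, fun p hp => ?_, fun j hj => ?_, h5, h6⟩
  · have h := allBelow_spec _ _ h2 v hv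
    simp only [Bool.and_eq_true, Nat.blt_eq, Nat.beq_eq] at h
    exact ⟨h.1.1.1, h.1.1.2, h.1.2, h.2⟩
  · have h := allBelow_spec _ _ h3 p hp
    simp only [Bool.and_eq_true, Nat.beq_eq] at h
    exact ⟨h.1.1.1, h.1.1.2, h.1.2, fun q hq => beq_iff_eq.1 (allBelow_spec _ _ h.2 q hq)⟩
  · have h := allBelow_spec _ _ h4 j hj
    simp only [Bool.and_eq_true] at h
    exact h

/-- The field automorphism on the vectors. -/
def frV : Equiv.Perm Vec :=
  Function.Involutive.toPerm (fun v : Vec => ⟨frC v, (fr_facts.2.1 v v.2).1⟩)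
    fun v => Fin.ext (fr_facts.2.1 v v.2).2.1

theorem frV_val (v : Vec) : (frV v : ℕ) = frC v := rfl

theorem frV_sq : frV * frV = 1 := Equiv.ext fun v => Fin.ext (fr_facts.2.1 v v.2).2.1

theorem frV_inv : frV⁻¹ = frV := inv_eq_of_mul_eq_one_right frV_sq

theorem frV_xor (a b : Vec) : frV (xorV a b) = xorV (frV a) (frV b) := Fin.ext (linC_xor repCols1 a b)

theorem frV_q (a : Vec) : q0 (frV a) = q0 a := (fr_facts.2.1 a a.2).2.2.1

theorem frV_om (a : Vec) : frV (omV a) = omV (omV (frV a)) := Fin.ext (fr_facts.2.1 a a.2).2.2.2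

theorem frV_conj {g : Equiv.Perm Vec} (h : g ∈ Lgrp) : frV * g * frV ∈ Lgrp := by
  refine lin_induction (P := fun g => frV * g * frV ∈ Lgrp) (fun j hj => ?_) (by rw [mul_one, frV_sq]; exact one_mem _)
    (fun a b ha hb => ?_) h
  · refine mem_of_sift lin_cert _ (c := pack 8 (frGen j) 256) (fun i => ?_) (fr_facts.2.2.2.1 j hj).1
    have hlt : frGen j i < 256 := by
      show frC (linC (colsOf j) (frC i)) < 256
      rw [← frV_val i, ← linP_val hj, ← frV_val]
      exact Fin.is_lt _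
    rw [get_pack 8 _ 256 i i.2, Nat.mod_eq_of_lt (show frGen j i < 2 ^ 8 from hlt)]
    simp only [Equiv.Perm.mul_apply, frV_val, linP_val hj, frGen]
  · have : frV * (a * b) * frV = (frV * a * frV) * (frV * b * frV) := by
      simp only [mul_assoc]; rw [← mul_assoc frV frV, frV_sq, one_mul]
    rw [this]
    exact mul_mem ha hb

theorem frV_swap {g : Equiv.Perm Vec} (h : g ∈ Lgrp) : ∃ g' ∈ Lgrp, frV * g = g' * frV :=
  ⟨_, frV_conj h, by rw [mul_assoc, mul_assoc, frV_sq, mul_one]⟩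

/-- The semilinear group on the vectors. -/
def Agrp : Subgroup (Equiv.Perm Vec) where
  carrier := {g | g ∈ Lgrp ∨ frV * g ∈ Lgrp}
  one_mem' := Or.inl (one_mem _)
  mul_mem' := by
    rintro a b (ha | ha) (hb | hb)
    · exact Or.inl (mul_mem ha hb)
    · refine Or.inr ?_
      obtain ⟨a', ha', e⟩ := frV_swap ha
      rw [← mul_assoc, e, mul_assoc]
      exact mul_mem ha' hb
    · exact Or.inr (by rw [← mul_assoc]; exact mul_mem ha hb)
    · refine Or.inl ?_
      have := mul_mem (frV_conj ha) hb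
      rwa [← mul_assoc frV frV, frV_sq, one_mul, mul_assoc a, ← mul_assoc frV frV, frV_sq, one_mul] at this
  inv_mem' := by
    rintro a (ha | ha)
    · exact Or.inl (inv_mem ha)
    · refine Or.inr ?_
      have := frV_conj (inv_mem ha)
      rwa [mul_inv_rev, frV_inv, mul_assoc, mul_assoc, frV_sq, mul_one] at this

theorem mem_Agrp {g : Equiv.Perm Vec} : g ∈ Agrp ↔ g ∈ Lgrp ∨ frV * g ∈ Lgrp := Iff.rfl

theorem lin_le : Lgrp ≤ Agrp := fun _ h => Or.inl h

theorem frV_mem : frV ∈ Agrp := Or.inr (by rw [frV_sq]; exact one_mem _)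

theorem frV_not_mem : frV ∉ Lgrp := fun h => by
  have e := congrArg Fin.val ((linLike h).2.1 v5)
  have : frC (omC 5) ≠ omC (frC 5) := by decide +kernel
  exact this e

theorem card_Agrp : Nat.card Agrp = 51840 := by
  classical
  have e : (Agrp : Set (Equiv.Perm Vec)) = (Lgrp : Set (Equiv.Perm Vec)) ∪ (fun g => frV * g) '' Lgrp := by
    ext g
    simp only [SetLike.mem_coe, mem_Agrp, Set.mem_union, Set.mem_image]
    refine or_congr_right ⟨fun h => ⟨_, h, by rw [← mul_assoc, frV_sq, one_mul]⟩, ?_⟩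
    rintro ⟨x, hx, rfl⟩
    rwa [← mul_assoc, frV_sq, one_mul]
  have hd : Disjoint (Lgrp : Set (Equiv.Perm Vec)) ((fun g => frV * g) '' Lgrp) := by
    rw [Set.disjoint_left]
    rintro a ha ⟨b, hb, rfl⟩
    exact frV_not_mem (by simpa using mul_mem (show frV * b ∈ Lgrp from ha) (inv_mem hb))
  have hL : (Lgrp : Set (Equiv.Perm Vec)).ncard = 25920 := by
    rw [← Nat.card_coe_set_eq]; exact card_Lgrp
  rw [← SetLike.coe_sort_coe, Nat.card_coe_set_eq, e, Set.ncard_union_eq hd,
    Set.ncard_image_of_injective _ (mul_right_injective frV), hL]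

theorem semi_xor {g : Equiv.Perm Vec} (h : g ∈ Agrp) (a b : Vec) : g (xorV a b) = xorV (g a) (g b) := by
  rcases h with h | h
  · exact (linLike h).1 a b
  · apply frV.injective
    rw [frV_xor]
    exact (linLike h).1 a b

theorem semi_q {g : Equiv.Perm Vec} (h : g ∈ Agrp) (a : Vec) : q0 (g a) = q0 a := by
  rcases h with h | h
  · exact (linLike h).2.2 a
  · rw [← frV_q]; exact (linLike h).2.2 a

theorem semi_pol {g : Equiv.Perm Vec} (h : g ∈ Agrp) (a b : Vec) : polC (g a) (g b) = polC a b := by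
  show Nat.xor (q0 (xorV (g a) (g b))) (Nat.xor (q0 (g a)) (q0 (g b))) = _
  rw [← semi_xor h, semi_q h, semi_q h, semi_q h]
  rfl

theorem semi_zero {g : Equiv.Perm Vec} (h : g ∈ Agrp) : g ⟨0, by norm_num⟩ = ⟨0, by norm_num⟩ := by
  have h0 := semi_xor h ⟨0, by norm_num⟩ ⟨0, by norm_num⟩
  rw [show xorV ⟨0, by norm_num⟩ ⟨0, by norm_num⟩ = (⟨0, by norm_num⟩ : Vec) from rfl] at h0
  rw [h0]
  exact Fin.ext (Nat.xor_self _)

theorem semi_om {g : Equiv.Perm Vec} (h : g ∈ Agrp) (a : Vec) :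
    g (omV a) = omV (g a) ∨ g (omV a) = omV (omV (g a)) := by
  rcases h with h | h
  · exact Or.inl ((linLike h).2.1 a)
  · refine Or.inr (frV.injective ?_)
    rw [frV_om, frV_om, show frV (g (omV a)) = omV (frV (g a)) from (linLike h).2.1 a]
    refine Fin.ext ?_
    have := reps_ok
    simp only [repsOK, Bool.and_eq_true] at this
    have h' : ∀ v : Vec, omC (omC (omC v)) = v := fun v => by
      have hv := allBelow_spec _ _ this.1 v v.2
      simp only [Bool.and_eq_true, Nat.beq_eq] at hv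
      exact hv.1.1
    show omC (frV (g a) : ℕ) = omC (omC (omC (omC (frV (g a) : ℕ))))
    rw [h' ⟨omC (frV (g a)), omC_lt _ (frV (g a)).2⟩]

/-! ### The points -/

/-- The field automorphism on the points. -/
def frP : Equiv.Perm Pt := toPerm 6 45 frElt

theorem rep_fr : Rep 6 frElt frP := rep_toPerm fr_facts.1

/-- The larger group on the points. -/
abbrev AGrp : Subgroup (Equiv.Perm Pt) := genGroup 6 45 aPtGens

theorem card_AGrp : Nat.card AGrp = 51840 := (cert_card aPt_cert).trans aPt_order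

theorem aPtGens_eq : aPtGens = ptGens ++ [frElt] := by decide +kernel

theorem grp_le : Grp ≤ AGrp := Subgroup.closure_mono fun x hx => by
  rw [Set.mem_ofPred_eq] at hx ⊢
  rw [aPtGens_eq, List.map_append, List.mem_append]
  exact Or.inl hx

theorem frP_mem : frP ∈ AGrp := Subgroup.subset_closure (show frP ∈ aPtGens.map _ from by
  rw [aPtGens_eq, List.map_append, List.mem_append]
  exact Or.inr (List.mem_singleton.2 rfl))

theorem frP_sq : frP * frP = 1 := by
  refine eq_of_canon (rep_mul rep_fr rep_fr) (b := one 6 45) (rep_one (by norm_num)) ?_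
  exact fr_facts.2.2.2.2.1

theorem frP_inv : frP⁻¹ = frP := inv_eq_of_mul_eq_one_right frP_sq

theorem frP_conj {g : Equiv.Perm Pt} (h : g ∈ Grp) : frP * g * frP ∈ Grp := by
  refine grp_induction (P := fun g => frP * g * frP ∈ Grp) (fun j hj => ?_) (by rw [mul_one, frP_sq]; exact one_mem _)
    (fun a b ha hb => ?_) h
  · have hr := rep_mul (rep_mul rep_fr (rep_pt j hj)) (rep_inv rep_fr)
    rw [frP_inv] at hr
    exact mem_of_sift pt_cert _ (fun i => (hr i).1) (fr_facts.2.2.2.1 j hj).2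
  · have : frP * (a * b) * frP = (frP * a * frP) * (frP * b * frP) := by
      simp only [mul_assoc]; rw [← mul_assoc frP frP, frP_sq, one_mul]
    rw [this]
    exact mul_mem ha hb

theorem mem_AGrp {x : Equiv.Perm Pt} : x ∈ AGrp ↔ x ∈ Grp ∨ frP * x ∈ Grp := by
  refine ⟨fun hx => ?_, fun hx => hx.elim (fun h => grp_le h) fun h => ?_⟩
  · have hx' : x ∈ Submonoid.closure {σ | σ ∈ aPtGens.map (toPerm 6 45)} := by
      rw [← Subgroup.closure_toSubmonoid_of_finite]; exact hx
    clear hx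
    induction hx' using Submonoid.closure_induction with
    | mem y hy =>
      rw [Set.mem_ofPred_eq, aPtGens_eq, List.map_append, List.mem_append] at hy
      rcases hy with hy | hy
      · exact Or.inl (Subgroup.subset_closure hy)
      · exact Or.inr (by rw [List.mem_singleton.1 hy]; show frP * frP ∈ Grp; rw [frP_sq]; exact one_mem _)
    | one => exact Or.inl (one_mem _)
    | mul a b _ _ ha hb =>
      rcases ha with ha | ha <;> rcases hb with hb | hb
      · exact Or.inl (mul_mem ha hb)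
      · refine Or.inr ?_
        have := mul_mem (frP_conj ha) hb
        rwa [mul_assoc (frP * a), ← mul_assoc frP frP, frP_sq, one_mul, mul_assoc] at this
      · exact Or.inr (by rw [← mul_assoc]; exact mul_mem ha hb)
      · refine Or.inl ?_
        have := mul_mem (frP_conj ha) hb
        rwa [← mul_assoc frP frP, frP_sq, one_mul, mul_assoc a, ← mul_assoc frP frP, frP_sq, one_mul] at this
  · have := mul_mem frP_mem (grp_le h)
    rwa [← mul_assoc, frP_sq, one_mul] at this

theorem frP_not_mem : frP ∉ Grp := fun h => by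
  have : AGrp ≤ Grp := fun x hx => (mem_AGrp.1 hx).elim id fun e => by
    have := mul_mem h e
    rwa [← mul_assoc, frP_sq, one_mul] at this
  have := Subgroup.card_le_of_le this
  rw [card_AGrp, card_Grp] at this
  omega

theorem sq_mem {x : Equiv.Perm Pt} (hx : x ∈ AGrp) : x * x ∈ Grp := by
  rcases mem_AGrp.1 hx with h | h
  · exact mul_mem h h
  · have := mul_mem (frP_conj h) h
    rwa [← mul_assoc frP frP, frP_sq, one_mul, mul_assoc x, ← mul_assoc frP frP, frP_sq, one_mul] at this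

theorem tvP_conjA {g : Equiv.Perm Pt} (hg : g ∈ AGrp) (p : Pt) : g * tvP p * g⁻¹ = tvP (g p) := by
  have hfr : ∀ p, frP * tvP p * frP⁻¹ = tvP (frP p) := fun p => by
    refine rep_eq_code (rep_mul (rep_mul rep_fr (rep_tv p)) (rep_inv rep_fr)) (rep_tv (frP p)) ?_
    show comp 6 45 (comp 6 45 frElt.1 (tvElt p).1) frElt.2 = (tvElt (frP p)).1
    rw [(fr_facts.2.2.1 p p.2).2.2.1, (rep_fr p).1]
  rcases mem_AGrp.1 hg with h | h
  · exact tvP_conj h p
  · have e := hfr ((frP * g) p)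
    rw [← tvP_conj h p, mul_inv_rev, frP_inv] at e
    have hgp : frP ((frP * g) p) = g p := by
      rw [← Equiv.Perm.mul_apply, ← mul_assoc, frP_sq, one_mul]
    rw [hgp] at e
    rw [← e]
    simp only [mul_assoc]
    rw [frP_sq, mul_one, ← mul_assoc frP frP, frP_sq, one_mul]

theorem adj_permA {g : Equiv.Perm Pt} (hg : g ∈ AGrp) (p q : Pt) : adjP (g p) (g q) ↔ adjP p q := by
  have hfr : ∀ p q, adjP (frP p) (frP q) ↔ adjP p q := fun p q => by
    show adjB (frP p) (frP q) = true ↔ adjB p q = true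
    rw [← (rep_fr p).1, ← (rep_fr q).1, (fr_facts.2.2.1 p p.2).2.2.2 q q.2]
  rcases mem_AGrp.1 hg with h | h
  · exact adj_perm h p q
  · rw [← adj_perm h p q, Equiv.Perm.mul_apply, Equiv.Perm.mul_apply, hfr]

/-! ### The action of the semilinear group on the points -/

/-- The map on the points follows the one on the singular vectors. -/
def FollowsA (σ : Equiv.Perm Vec) (τ : Equiv.Perm Pt) : Prop :=
  ∀ v, Sing v → Sing (σ v) ∧ pIdx (σ v) = τ (pIdx v)

theorem follows_mul {a b : Equiv.Perm Vec} {x y : Equiv.Perm Pt} (ha : FollowsA a x) (hb : FollowsA b y) :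
    FollowsA (a * b) (x * y) := fun v hv => by
  obtain ⟨h1, h2⟩ := hb v hv
  obtain ⟨h3, h4⟩ := ha _ h1
  exact ⟨h3, by rw [Equiv.Perm.mul_apply, h4, h2]; rfl⟩

theorem follows_lin (g : Lgrp) : FollowsA g.1 (ptHom g) := fun v hv =>
  ⟨sing_map g.2 hv, by rw [pIdx_map g.2 hv, ptHom_apply]⟩

theorem follows_fr : FollowsA frV frP := by
  intro v hv
  obtain ⟨hc, -, -, -⟩ := sing_spec hv
  obtain ⟨h1, h2, -, -⟩ := fr_facts.2.2.1 (pIdx v) (pIdx v).2
  have hs : Sing (frV (repV (pIdx v))) := (sing_iff _).2 h1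
  have hp : pIdx (frV (repV (pIdx v))) = frP (pIdx v) := Fin.ext (by
    rw [← (rep_fr _).1, h2]
    exact Nat.mod_eq_of_lt (sing_spec hs).2.2.2)
  obtain ⟨-, hs1, hp1, -⟩ := sing_spec hs
  obtain ⟨-, hs2, hp2, -⟩ := sing_spec hs1
  obtain ⟨-, hs3, hp3, -⟩ := sing_spec hs2
  obtain ⟨-, hs4, hp4, -⟩ := sing_spec hs3
  rcases hc with e | e | e <;> rw [e]
  · rw [← e] at hs hp ⊢
    exact ⟨hs, hp⟩
  · rw [← show pIdx v = pIdx (omV (repV (pIdx v))) from congrArg pIdx e, frV_om]
    exact ⟨hs2, (hp2.trans hp1).trans hp⟩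
  · rw [← show pIdx v = pIdx (omV (omV (repV (pIdx v)))) from congrArg pIdx e, frV_om, frV_om]
    exact ⟨hs4, ((hp4.trans hp3).trans (hp2.trans hp1)).trans hp⟩

theorem exists_followsA {g : Equiv.Perm Vec} (h : g ∈ Agrp) : ∃ τ ∈ AGrp, FollowsA g τ := by
  rcases h with h | h
  · exact ⟨_, grp_le (ptHom_mem ⟨g, h⟩), follows_lin ⟨g, h⟩⟩
  · refine ⟨frP * ptHom ⟨_, h⟩, mul_mem frP_mem (grp_le (ptHom_mem _)), ?_⟩
    have := follows_mul follows_fr (follows_lin ⟨_, h⟩)
    rwa [← mul_assoc, frV_sq, one_mul] at this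

theorem follows_unique {g : Equiv.Perm Vec} {x y : Equiv.Perm Pt} (hx : FollowsA g x) (hy : FollowsA g y) : x = y :=
  Equiv.ext fun p => by
    obtain ⟨hs, e⟩ := rep_spec p
    rw [← e, ← (hx _ hs).2, ← (hy _ hs).2]

/-- The action on the points. -/
noncomputable def aHom : Agrp →* Equiv.Perm Pt where
  toFun g := (exists_followsA g.2).choose
  map_one' := follows_unique (exists_followsA (1 : Agrp).2).choose_spec.2 fun v hv => ⟨hv, rfl⟩
  map_mul' a b := follows_unique (exists_followsA (a * b).2).choose_spec.2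
    (follows_mul (exists_followsA a.2).choose_spec.2 (exists_followsA b.2).choose_spec.2)

theorem aHom_follows (g : Agrp) : FollowsA g.1 (aHom g) := (exists_followsA g.2).choose_spec.2

theorem aHom_mem (g : Agrp) : aHom g ∈ AGrp := (exists_followsA g.2).choose_spec.1

theorem aHom_lin {g : Agrp} (h : g.1 ∈ Lgrp) : aHom g = ptHom ⟨g.1, h⟩ :=
  follows_unique (aHom_follows g) (follows_lin ⟨g.1, h⟩)

theorem aHom_frV : aHom ⟨frV, frV_mem⟩ = frP := follows_unique (aHom_follows _) follows_fr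

theorem aHom_inner {g : Agrp} (h : aHom g ∈ Grp) : g.1 ∈ Lgrp := by
  rcases g.2 with h' | h'
  · exact h'
  · exfalso
    have e := aHom_lin (g := ⟨frV, frV_mem⟩ * g) h'
    rw [map_mul, aHom_frV] at e
    refine frP_not_mem ?_
    have h2 : frP * aHom g ∈ Grp := e ▸ ptHom_mem _
    have := mul_mem h2 (inv_mem h)
    rwa [mul_inv_cancel_right] at this

theorem aHom_injective : Function.Injective aHom := by
  rw [injective_iff_map_eq_one]
  intro g hg
  have h : g.1 ∈ Lgrp := aHom_inner (hg ▸ one_mem _)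
  rw [aHom_lin h, ← map_one ptHom] at hg
  exact Subtype.ext (congrArg (fun x : Lgrp => x.1) (ptHom_injective hg))

theorem exists_semi {x : Equiv.Perm Pt} (hx : x ∈ AGrp) : ∃ g : Agrp, aHom g = x := by
  rcases mem_AGrp.1 hx with h | h
  · obtain ⟨σ, e⟩ := exists_lin h
    exact ⟨⟨σ.1, lin_le σ.2⟩, (aHom_lin σ.2).trans e⟩
  · obtain ⟨σ, e⟩ := exists_lin h
    refine ⟨⟨frV, frV_mem⟩ * ⟨σ.1, lin_le σ.2⟩, ?_⟩
    rw [map_mul, aHom_frV, aHom_lin (g := ⟨σ.1, lin_le σ.2⟩) σ.2, e, ← mul_assoc, frP_sq, one_mul]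

theorem aHom_tv (p : Pt) : aHom ⟨tvV p, lin_le (tvV_mem p)⟩ = tvP p :=
  (aHom_lin (g := ⟨tvV p, lin_le (tvV_mem p)⟩) (tvV_mem p)).trans (ptHom_tv p)

theorem eq_tvA {g : Agrp} {p : Pt} (h : aHom g = tvP p) : g.1 = tvV p :=
  congrArg Subtype.val (aHom_injective (h.trans (aHom_tv p).symm))

theorem aHom_apply (g : Agrp) (p : Pt) : pIdx (g.1 (repV p)) = aHom g p := by
  have := (aHom_follows g (repV p) (rep_spec p).1).2
  rwa [(rep_spec p).2] at this

end Cfsg.Agent.U62Aut
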