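import Cfsg.Agent.Lib.U62Aut.Model.Grp

/-!
The involutions of the group on the 45 points, and its 2-subgroups of exponent two or with squares in the
group of a transvection.
-/

set_option autoImplicit false
set_option maxRecDepth 20000

namespace Cfsg.Agent.U62Aut

open Cfsg.Agent.PermCert Cfsg.Agent.U62Rec.Model

theorem mul_mem_outer {x y : Equiv.Perm Pt} (hx : x ∈ AGrp) (hy : y ∈ AGrp) (hx' : x ∉ Grp) (hy' : y ∉ Grp) :
    x * y ∈ Grp := by
  have h1 := frP_conj ((mem_AGrp.1 hx).resolve_left hx')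
  have := mul_mem h1 ((mem_AGrp.1 hy).resolve_left hy')
  rwa [← mul_assoc frP frP, frP_sq, one_mul, mul_assoc x, ← mul_assoc frP frP, frP_sq, one_mul] at this

theorem conj_mem_grp {c x : Equiv.Perm Pt} (hc : c ∈ AGrp) (hx : x ∈ Grp) : c * x * c⁻¹ ∈ Grp := by
  rcases mem_AGrp.1 hc with h | h
  · exact mul_mem (mul_mem h hx) (inv_mem h)
  · have := frP_conj (mul_mem (mul_mem h hx) (inv_mem h))
    rw [mul_inv_rev, frP_inv] at this
    have e : frP * (frP * c * x * (c⁻¹ * frP)) * frP = c * x * c⁻¹ := by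
      simp only [mul_assoc]
      rw [frP_sq, mul_one, ← mul_assoc frP frP, frP_sq, one_mul]
    rwa [e] at this

theorem conj_grp_iff {c x : Equiv.Perm Pt} (hc : c ∈ AGrp) : c * x * c⁻¹ ∈ Grp ↔ x ∈ Grp := by
  refine ⟨fun h => ?_, conj_mem_grp hc⟩
  have := conj_mem_grp (inv_mem hc) h
  rwa [show c⁻¹ * (c * x * c⁻¹) * c⁻¹⁻¹ = x by group] at this

theorem nfix_eq {a : Elt} {σ : Equiv.Perm Pt} (h : Rep 6 a σ) : {p | σ p = p}.ncard = nfix a.1 :=
  ncard_eq_countP _ _ fun p => by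
    rw [Nat.beq_eq, (h p).1]
    exact Fin.ext_iff

theorem nfix_conj {σ c : Equiv.Perm Pt} : {p | (c * σ * c⁻¹) p = p}.ncard = {p | σ p = p}.ncard := by
  have e : {p | (c * σ * c⁻¹) p = p} = c '' {p | σ p = p} := by
    ext p
    simp only [Set.mem_ofPred_eq, Set.mem_image, Equiv.Perm.mul_apply]
    constructor
    · intro h
      exact ⟨c⁻¹ p, c.injective (by simpa using h), by simp⟩
    · rintro ⟨q, hq, rfl⟩
      simp [hq]
  rw [e, Set.ncard_image_of_injective _ c.injective]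

/-! ### The representatives -/

/-- A representative on the points. -/
def repP (k : ℕ) : Equiv.Perm Pt := toPerm 6 45 (repPts.getD k (0, 0))

theorem repP_facts {k : ℕ} (hk : k < 2) : Rep 6 (repPts.getD k (0, 0)) (repP k) ∧ repP k * repP k = 1 ∧
    repP k ∈ AGrp ∧ repP k ∉ Grp ∧ {p | repP k p = p}.ncard = if k = 0 then 15 else 7 := by
  have h := repsAut_ok
  simp only [repsAutOK, Bool.and_eq_true, Nat.beq_eq, List.all_eq_true] at h
  obtain ⟨⟨⟨⟨⟨hr, hlen⟩, h15⟩, h7⟩, -⟩, -⟩ := h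
  have hm : repPts.getD k (0, 0) ∈ repPts := by
    rw [List.getD_eq_getElem _ _ (by omega)]; exact List.getElem_mem _
  obtain ⟨⟨hv, hsq⟩, hs⟩ := hr _ hm
  have hR : Rep 6 (repPts.getD k (0, 0)) (repP k) := rep_toPerm hv
  have hsq' : repP k * repP k = 1 := eq_of_canon (rep_mul hR hR) (b := one 6 45) (rep_one (by norm_num)) hsq
  have hmem : frP * repP k ∈ Grp := mem_of_sift pt_cert _ (fun i => ((rep_mul rep_fr hR) i).1) hs
  refine ⟨hR, hsq', mem_AGrp.2 (Or.inr hmem), fun h => frP_not_mem ?_, ?_⟩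
  · have := mul_mem hmem (inv_mem h)
    rwa [mul_inv_cancel_right] at this
  · rw [nfix_eq hR]
    interval_cases k
    exacts [h15, h7]

theorem frP_eq : repP 1 = frP :=
  eq_of_canon (repP_facts (k := 1) (by norm_num)).1 rep_fr fr_facts.2.2.2.2.2

/-- The centraliser of a representative in the inner group. -/
def cenK (k : ℕ) : Subgroup (Equiv.Perm Pt) :=
  genGroup 6 45 (if k = 0 then cen0Gens else cen1Gens)

theorem cenK_facts {k : ℕ} (hk : k < 2) : cenK k ≤ Grp ∧ (∀ x ∈ cenK k, x * repP k = repP k * x) ∧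
    Nat.card (cenK k) = if k = 0 then 720 else 48 := by
  have h := repsAut_ok
  simp only [repsAutOK, Bool.and_eq_true, Nat.beq_eq, List.all_eq_true] at h
  obtain ⟨⟨-, h0⟩, h1⟩ := h
  have hv : ∀ (gens : List Elt) (derived : List (Elt × List ℕ)) (levels : List CLevel),
      checkCert 6 45 gens derived levels = true → ∀ g ∈ gens, validElt 6 45 g = true := by
    intro gens derived levels hc g hg
    simp only [checkCert, Bool.and_eq_true, List.all_eq_true] at hc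
    exact hc.1.1.1.1.2 g hg
  have key : ∀ (gens : List Elt), (∀ g ∈ gens, validElt 6 45 g = true) →
      (∀ g ∈ gens, sift 6 45 ptLevels g.1 = true ∧
        canon (comp 6 45 g.1 (repPts.getD k (0, 0)).1) = canon (comp 6 45 (repPts.getD k (0, 0)).1 g.1)) →
      genGroup 6 45 gens ≤ Grp ⊓ Subgroup.centralizer {repP k} := by
    intro gens hv hg
    rw [genGroup, Subgroup.closure_le]
    rintro x hx
    obtain ⟨g, hgm, rfl⟩ := List.mem_map.1 hx
    obtain ⟨h1, h2⟩ := hg g hgm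
    refine ⟨cert_mem pt_cert (hv g hgm) h1, Subgroup.mem_centralizer_singleton_iff.2 ?_⟩
    exact eq_of_canon (rep_mul (rep_toPerm (hv g hgm)) (repP_facts hk).1)
      (rep_mul (repP_facts hk).1 (rep_toPerm (hv g hgm))) h2
  have hle : cenK k ≤ Grp ⊓ Subgroup.centralizer {repP k} := by
    interval_cases k
    · exact key _ (hv _ _ _ cen0_cert) h0
    · exact key _ (hv _ _ _ cen1_cert) h1
  refine ⟨hle.trans inf_le_left, fun x hx => Subgroup.mem_centralizer_singleton_iff.1 (hle hx).2, ?_⟩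
  interval_cases k
  · exact (cert_card cen0_cert).trans cen0_order
  · exact (cert_card cen1_cert).trans cen1_order

/-- The conjugates of a representative. -/
def repClass (k : ℕ) : Set (Equiv.Perm Pt) := {x | ∃ γ ∈ Grp, x = γ * repP k * γ⁻¹}

theorem repClass_card {k : ℕ} (hk : k < 2) : (repClass k).ncard * Nat.card (cenK k) ≤ 25920 := by
  obtain ⟨hle, hc, -⟩ := cenK_facts hk
  let K : Subgroup Grp := (cenK k).subgroupOf Grp
  let f : Grp ⧸ K → Equiv.Perm Pt := Quotient.lift (fun g : Grp => (g : Equiv.Perm Pt) * repP k * (g : Equiv.Perm Pt)⁻¹)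
    fun a b hab => by
      have h : ((a⁻¹ * b : Grp) : Equiv.Perm Pt) ∈ cenK k := Subgroup.mem_subgroupOf.1 ((QuotientGroup.leftRel_apply (s := K)).1 hab)
      have e := hc _ h
      simp only [Subgroup.coe_mul, Subgroup.coe_inv] at e
      calc (a : Equiv.Perm Pt) * repP k * (a : Equiv.Perm Pt)⁻¹
          = a * (repP k * ((a : Equiv.Perm Pt)⁻¹ * b)) * (b : Equiv.Perm Pt)⁻¹ := by group
        _ = a * ((a : Equiv.Perm Pt)⁻¹ * b * repP k) * (b : Equiv.Perm Pt)⁻¹ := by rw [e]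
        _ = b * repP k * (b : Equiv.Perm Pt)⁻¹ := by group
  have hr : repClass k ⊆ Set.range f := by
    rintro _ ⟨γ, hγ, rfl⟩
    exact ⟨QuotientGroup.mk ⟨γ, hγ⟩, rfl⟩
  have h1 : (repClass k).ncard ≤ Nat.card (Grp ⧸ K) := by
    refine (Set.ncard_le_ncard hr (Set.toFinite _)).trans ?_
    rw [← Nat.card_coe_set_eq]
    exact Finite.card_range_le f
  have h2 := K.card_eq_card_quotient_mul_card_subgroup
  rw [card_Grp, Nat.card_congr (Subgroup.subgroupOfEquivOfLe hle).toEquiv] at h2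
  rw [h2]
  exact Nat.mul_le_mul_right _ h1

/-! ### The Sylow 2-subgroup -/

/-- The outer normalising involution. -/
def fP : Equiv.Perm Pt := toPerm 6 45 fSyl

theorem out_facts : Rep 6 fSyl fP ∧ fP ∈ AGrp ∧ fP ∉ Grp ∧ fP * fP = 1 ∧ Commute fP (tvP p15) ∧
    (∀ i < 64, ∃ j < 64, fP * sylP i * fP = sylP j) ∧
    ∀ i < 64, Rep 6 (outE i) (fP * sylP i) ∧ ((fP * sylP i) * (fP * sylP i) = 1 →
      (∃ k < 2, fP * sylP i ∈ repClass k) ∧ Nat.ble ((List.range 64).countP fun j =>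
          Nat.beq (canon (comp 6 45 (sylE j).1 (sylE j).1)) (canon (idCode 6 45)) &&
            Nat.beq (canon (comp 6 45 (sylE j).1 (outE i).1)) (canon (comp 6 45 (outE i).1 (sylE j).1))) 15 =
        true) := by
  have h := out_ok
  simp only [outOK, Bool.and_eq_true, Nat.beq_eq] at h
  obtain ⟨⟨⟨⟨⟨hv, hs⟩, hsq⟩, hT⟩, hn⟩, hi⟩ := h
  have hR : Rep 6 fSyl fP := rep_toPerm hv
  have hmem : frP * fP ∈ Grp := mem_of_sift pt_cert _ (fun i => ((rep_mul rep_fr hR) i).1) hs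
  have hsq' : fP * fP = 1 := eq_of_canon (rep_mul hR hR) (b := one 6 45) (rep_one (by norm_num)) hsq
  have hinv : fP⁻¹ = fP := inv_eq_of_mul_eq_one_right hsq'
  refine ⟨hR, mem_AGrp.2 (Or.inr hmem), fun h => frP_not_mem ?_, hsq',
    eq_of_canon (rep_mul hR (rep_tv p15)) (rep_mul (rep_tv p15) hR) hT, fun i hi' => ?_,
    fun i hi' => ⟨rep_mul hR (rep_syl hi'), fun hsi => ?_⟩⟩
  · have := mul_mem hmem (inv_mem h)
    rwa [mul_inv_cancel_right] at this
  · obtain ⟨c, hc, he⟩ := List.any_eq_true.1 (allBelow_spec _ _ hn i hi')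
    obtain ⟨j, hj, e⟩ := List.getElem_of_mem hc
    refine ⟨j, syl_len ▸ hj, ?_⟩
    have hrj : Rep 6 c (sylP j) := by
      rw [← e, ← List.getD_eq_getElem sylPts (0, 0) hj]
      exact rep_syl (syl_len ▸ hj)
    have hr := rep_mul (rep_mul hR (rep_syl hi')) (rep_inv hR)
    rw [hinv] at hr
    exact (eq_of_canon hrj hr (Nat.eq_of_beq_eq_true he)).symm
  · have h := allBelow_spec _ _ hi i hi'
    have hro := rep_mul hR (rep_syl hi')
    have hone : canon (comp 6 45 (outE i).1 (outE i).1) = canon (idCode 6 45) := by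
      have h0 := rep_mul hro hro
      rw [hsi] at h0
      exact canon_eq (a := mul 6 45 (outE i) (outE i)) (b := one 6 45) h0 (rep_one (by norm_num))
    simp only [Bool.or_eq_true, Bool.and_eq_true, Bool.not_eq_true', ← Bool.not_eq_true, Nat.beq_eq,
      Nat.blt_eq, hone, not_true, false_or] at h
    obtain ⟨⟨⟨⟨⟨hk, hcv⟩, hcs⟩, hce⟩, -⟩, hcnt⟩ := h
    refine ⟨⟨_, hk, toPerm 6 45 (outConj.getD i (0, (0, 0))).2, cert_mem pt_cert hcv hcs, ?_⟩, hcnt⟩
    exact eq_of_canon hro (rep_mul (rep_mul (rep_toPerm hcv) (repP_facts hk).1) (rep_inv (rep_toPerm hcv))) hce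

theorem fP_inv : fP⁻¹ = fP := inv_eq_of_mul_eq_one_right out_facts.2.2.2.1

theorem exists_SA : ∃ SA : Subgroup (Equiv.Perm Pt), SA ≤ AGrp ∧ Nat.card SA = 128 ∧
    (∀ x ∈ SA, Commute x (tvP p15)) ∧ ∀ x ∈ SA, (x ∈ Grp ∧ ∃ i < 64, x = sylP i) ∨ ∃ i < 64, x = fP * sylP i := by
  classical
  obtain ⟨hR, hA, hnG, hsq, hT, hn, -⟩ := out_facts
  obtain ⟨S, hS64, hSi⟩ := exists_syl
  set S0 := (S : Subgroup Grp).map Grp.subtype with hS0
  have hS0G : ∀ x ∈ S0, x ∈ Grp := by rintro _ ⟨y, -, rfl⟩; exact y.2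
  have hnorm : ∀ x ∈ S0, fP * x * fP ∈ S0 := fun x hx => by
    obtain ⟨i, hi, rfl⟩ := (hSi x).1 hx
    obtain ⟨j, hj, e⟩ := hn i hi
    exact (hSi _).2 ⟨j, hj, e⟩
  let SA : Subgroup (Equiv.Perm Pt) :=
    { carrier := {g | g ∈ S0 ∨ fP * g ∈ S0}
      one_mem' := Or.inl (one_mem _)
      mul_mem' := by
        rintro a b (ha | ha) (hb | hb)
        · exact Or.inl (mul_mem ha hb)
        · refine Or.inr ?_
          have := mul_mem (hnorm _ ha) hb
          rwa [mul_assoc (fP * a), ← mul_assoc fP fP, hsq, one_mul, mul_assoc] at this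
        · exact Or.inr (by rw [← mul_assoc]; exact mul_mem ha hb)
        · refine Or.inl ?_
          have := mul_mem (hnorm _ ha) hb
          rwa [← mul_assoc fP fP, hsq, one_mul, mul_assoc a, ← mul_assoc fP fP, hsq, one_mul] at this
      inv_mem' := by
        rintro a (ha | ha)
        · exact Or.inl (inv_mem ha)
        · refine Or.inr ?_
          have := hnorm _ (inv_mem ha)
          rwa [mul_inv_rev, fP_inv, mul_assoc, mul_assoc, hsq, mul_one] at this }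
  have hmem : ∀ x ∈ SA, (x ∈ Grp ∧ ∃ i < 64, x = sylP i) ∨ ∃ i < 64, x = fP * sylP i := fun x hx => by
    rcases hx with h | h
    · exact Or.inl ⟨hS0G x h, (hSi x).1 h⟩
    · obtain ⟨i, hi, e⟩ := (hSi _).1 h
      exact Or.inr ⟨i, hi, by rw [← e, ← mul_assoc, hsq, one_mul]⟩
  refine ⟨SA, fun x hx => ?_, ?_, fun x hx => ?_, hmem⟩
  · rcases hx with h | h
    · exact grp_le (hS0G x h)
    · have := mul_mem hA (grp_le (hS0G _ h))
      rwa [← mul_assoc, hsq, one_mul] at this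
  · have e : (SA : Set (Equiv.Perm Pt)) = (S0 : Set (Equiv.Perm Pt)) ∪ (fun g => fP * g) '' S0 := by
      ext g
      show (g ∈ S0 ∨ fP * g ∈ S0) ↔ _
      simp only [Set.mem_union, Set.mem_image, SetLike.mem_coe]
      refine or_congr_right ⟨fun h => ⟨_, h, by rw [← mul_assoc, hsq, one_mul]⟩, ?_⟩
      rintro ⟨y, hy, rfl⟩
      rwa [← mul_assoc, hsq, one_mul]
    have hd : Disjoint (S0 : Set (Equiv.Perm Pt)) ((fun g => fP * g) '' S0) := by
      rw [Set.disjoint_left]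
      rintro a ha ⟨b, hb, rfl⟩
      exact hnG (hS0G _ (by simpa using mul_mem (show fP * b ∈ S0 from ha) (inv_mem hb)))
    rw [← SetLike.coe_sort_coe, Nat.card_coe_set_eq, e, Set.ncard_union_eq hd,
      Set.ncard_image_of_injective _ (mul_right_injective fP), ← Nat.card_coe_set_eq,
      show Nat.card ((S0 : Set (Equiv.Perm Pt)) : Type _) = 64 from hS64]
  · rcases hmem x hx with ⟨-, i, hi, rfl⟩ | ⟨i, hi, rfl⟩
    exacts [syl_comm hi, hT.mul_left (syl_comm hi)]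

/-- A 2-subgroup is conjugate into the Sylow 2-subgroup. -/
theorem conj_into {SA K M : Subgroup (Equiv.Perm Pt)} (hK : K ≤ AGrp) (hSK : SA ≤ K) (hS : Nat.card SA = 128)
    (hM : M ≤ K) (h2 : ∀ a ∈ M, (a * a) * (a * a) = 1) : ∃ c ∈ K, ∀ x ∈ M, c * x * c⁻¹ ∈ SA := by
  classical
  haveI : Fact (Nat.Prime 2) := ⟨Nat.prime_two⟩
  have hS2 : IsPGroup 2 (SA.subgroupOf K) := IsPGroup.of_card (n := 7) (by
    rw [Nat.card_congr (Subgroup.subgroupOfEquivOfLe hSK).toEquiv, hS]; norm_num)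
  obtain ⟨P, hP⟩ := hS2.exists_le_sylow
  have hPc : Nat.card P ≤ 128 := by
    obtain ⟨k, hk⟩ := IsPGroup.iff_card.1 P.2
    have hd : Nat.card P ∣ 51840 := by
      refine card_AGrp ▸ dvd_trans (Subgroup.card_subgroup_dvd_card _) (Subgroup.card_dvd_of_le hK)
    have hk' : Nat.card (P : Subgroup K) = 2 ^ k := hk
    rw [show Nat.card P = Nat.card (P : Subgroup K) from rfl, hk'] at hd ⊢
    have : k ≤ 7 := by
      by_contra h
      have : 2 ^ 8 ∣ 51840 := (pow_dvd_pow 2 (show 8 ≤ k by omega)).trans hd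
      norm_num at this
    exact (Nat.pow_le_pow_right (show 2 > 0 by norm_num) this).trans (by norm_num)
  have hPeq : SA.subgroupOf K = (P : Subgroup K) := Subgroup.eq_of_le_of_card_ge hP (by
    rw [Nat.card_congr (Subgroup.subgroupOfEquivOfLe hSK).toEquiv, hS]; exact hPc)
  have hp : IsPGroup 2 (M.subgroupOf K) := isPGroup_sq fun a ha => Subtype.ext (by
    simp only [Subgroup.coe_mul, Subgroup.coe_one]
    exact h2 _ (Subgroup.mem_subgroupOf.1 ha))
  obtain ⟨Q, hQ⟩ := hp.exists_le_sylow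
  obtain ⟨c, hc⟩ := MulAction.exists_smul_eq K Q P
  refine ⟨c, c.2, fun x hx => ?_⟩
  have h1 : c * ⟨x, hM hx⟩ * c⁻¹ ∈ (P : Subgroup K) := by
    rw [← hc, Sylow.coe_subgroup_smul, ← MulAut.conj_apply]
    exact Subgroup.smul_mem_pointwise_smul _ _ _ (hQ (Subgroup.mem_subgroupOf.2 hx))
  rw [← hPeq] at h1
  exact Subgroup.mem_subgroupOf.1 h1

/-- The involutions. -/
theorem inv_cases {σ : Equiv.Perm Pt} (h : σ ∈ AGrp) (h2 : σ * σ = 1) (h1 : σ ≠ 1) :
    (∃ p, σ = tvP p) ∨ (∃ p q, adjP p q ∧ σ = tvP p * tvP q) ∨ ∃ k < 2, σ ∈ repClass k := by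
  by_cases hG : σ ∈ Grp
  · rcases invs_cases (mem_invs hG h2 h1) with h | h
    exacts [Or.inl h, Or.inr (Or.inl h)]
  refine Or.inr (Or.inr ?_)
  obtain ⟨SA, hSA, hSc, -, hSm⟩ := exists_SA
  have hle : Subgroup.zpowers σ ≤ AGrp := Subgroup.zpowers_le.2 h
  obtain ⟨c, hc, hcx⟩ := conj_into (K := AGrp) le_rfl hSA hSc hle fun a ha => by
    obtain ⟨n, rfl⟩ := Subgroup.mem_zpowers_iff.1 ha
    rw [← (Commute.refl σ).mul_zpow n, h2, one_zpow, one_mul]
  rcases hSm _ (hcx σ (Subgroup.mem_zpowers σ)) with ⟨hg, -⟩ | ⟨i, hi, e⟩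
  · exact absurd ((conj_grp_iff hc).1 hg) hG
  have hsq : fP * sylP i * (fP * sylP i) = 1 := by
    rw [← e, show c * σ * c⁻¹ * (c * σ * c⁻¹) = c * (σ * σ) * c⁻¹ by group, h2, mul_one, mul_inv_cancel]
  obtain ⟨⟨k, hk, γ, hγ, he⟩, -⟩ := (out_facts.2.2.2.2.2.2 i hi).2 hsq
  obtain ⟨-, hr2, hrA, hrG, -⟩ := repP_facts hk
  refine ⟨k, hk, ?_⟩
  have eσ : σ = c⁻¹ * γ * repP k * (c⁻¹ * γ)⁻¹ := by
    calc σ = c⁻¹ * (c * σ * c⁻¹) * c := by group
      _ = c⁻¹ * (γ * repP k * γ⁻¹) * c := by rw [e, he]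
      _ = _ := by group
  by_cases hcg : c⁻¹ * γ ∈ Grp
  · exact ⟨_, hcg, eσ⟩
  · refine ⟨c⁻¹ * γ * repP k, mul_mem_outer (mul_mem (inv_mem hc) (grp_le hγ)) hrA hcg hrG, ?_⟩
    rw [eσ]; group

open Classical in
/-- The involutions, as a set. -/
noncomputable def invsA : Finset (Equiv.Perm Pt) :=
  Finset.univ.filter fun σ => σ ∈ AGrp ∧ σ * σ = 1 ∧ σ ≠ 1

theorem mem_invsA {σ : Equiv.Perm Pt} (h : σ ∈ AGrp) (h2 : σ * σ = 1) (h1 : σ ≠ 1) : σ ∈ invsA := by
  classical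
  exact Finset.mem_filter.2 ⟨Finset.mem_univ _, h, h2, h1⟩

theorem invsA_card : invsA.card ≤ 891 := by
  classical
  have hsub : (invsA : Set (Equiv.Perm Pt)) ⊆ (U62Rec.Model.invs : Set (Equiv.Perm Pt)) ∪ (repClass 0 ∪ repClass 1) := by
    intro σ hσ
    obtain ⟨-, h, h2, h1⟩ := Finset.mem_filter.1 (Finset.mem_coe.1 hσ)
    rcases inv_cases h h2 h1 with ⟨p, rfl⟩ | ⟨p, q, hadj, rfl⟩ | ⟨k, hk, hc⟩
    · exact Or.inl (Finset.mem_coe.2 (mem_invs (tvP_mem p) (tvP_sq p) (tvP_ne_one p)))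
    · exact Or.inl (Finset.mem_coe.2 (mem_invs (mul_mem (tvP_mem p) (tvP_mem q)) h2 h1))
    · interval_cases k
      exacts [Or.inr (Or.inl hc), Or.inr (Or.inr hc)]
  have h0 := repClass_card (k := 0) (by norm_num)
  have h1 := repClass_card (k := 1) (by norm_num)
  rw [(cenK_facts (k := 0) (by norm_num)).2.2, if_pos rfl] at h0
  rw [(cenK_facts (k := 1) (by norm_num)).2.2, if_neg (by norm_num)] at h1
  have h2 := Set.ncard_le_ncard hsub (Set.toFinite _)
  have h3 := Set.ncard_union_le (U62Rec.Model.invs : Set (Equiv.Perm Pt)) (repClass 0 ∪ repClass 1)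
  have h4 := Set.ncard_union_le (repClass 0) (repClass 1)
  have h5 := U62Rec.Model.invs_card
  rw [Set.ncard_coe_finset] at h2 h3
  omega

/-- Five or fifteen fixed points. -/
def GoodP (σ : Equiv.Perm Pt) : Prop := {p | σ p = p}.ncard = 5 ∨ {p | σ p = p}.ncard = 15

theorem tv_nfix (p : Pt) : {q | tvP p q = q}.ncard = 13 := by
  rw [nfix_eq (rep_tv p)]
  have h := invFix_ok
  simp only [invFixOK, Bool.and_eq_true, List.all_eq_true, Nat.beq_eq] at h
  refine h.1 _ ?_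
  rw [tvElt, List.getD_eq_getElem _ _ (by rw [lengths.2.2.2.2.2.1]; exact p.2)]
  exact List.getElem_mem _

theorem prod_nfix {p q : Pt} (hadj : adjP p q) : {r | (tvP p * tvP q) r = r}.ncard = 5 := by
  obtain ⟨k, hk, hr, -⟩ := exists_pair hadj
  rw [nfix_eq hr]
  have h := invFix_ok
  simp only [invFixOK, Bool.and_eq_true, List.all_eq_true, Nat.beq_eq] at h
  refine h.2 _ ?_
  rw [prodElt, List.getD_eq_getElem _ _ (by rw [lengths.2.2.2.2.2.2.2]; exact hk)]
  exact List.getElem_mem _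

theorem rep_nfix {k : ℕ} (hk : k < 2) {σ : Equiv.Perm Pt} (h : σ ∈ repClass k) :
    {p | σ p = p}.ncard = if k = 0 then 15 else 7 := by
  obtain ⟨γ, -, rfl⟩ := h
  rw [nfix_conj]
  exact (repP_facts hk).2.2.2.2

/-- The involution outside both good classes. -/
theorem odd_class {σ : Equiv.Perm Pt} (h : σ ∈ AGrp) (h2 : σ * σ = 1) (h1 : σ ≠ 1) (hne : ∀ p, σ ≠ tvP p)
    (hg : ¬ GoodP σ) : σ ∈ repClass 1 ∧ σ ∉ Grp := by
  rcases inv_cases h h2 h1 with ⟨p, e⟩ | ⟨p, q, hadj, rfl⟩ | ⟨k, hk, hc⟩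
  · exact absurd e (hne p)
  · exact absurd (Or.inl (prod_nfix hadj)) hg
  · interval_cases k
    · exact absurd (Or.inr (rep_nfix (by norm_num) hc)) hg
    · refine ⟨hc, ?_⟩
      obtain ⟨γ, hγ, rfl⟩ := hc
      rw [conj_grp_iff (grp_le hγ)]
      exact (repP_facts (k := 1) (by norm_num)).2.2.2.1

/-- A subgroup inside a coset and a subgroup. -/
theorem card_coset {M : Subgroup (Equiv.Perm Pt)} (hM : M ≤ AGrp) {g : Equiv.Perm Pt} (hg : g ∈ M)
    (hgG : g ∉ Grp) : Nat.card M ≤ 2 * Nat.card ↥(M ⊓ Grp) := by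
  classical
  have hsub : (M : Set (Equiv.Perm Pt)) ⊆
      ((M ⊓ Grp : Subgroup _) : Set (Equiv.Perm Pt)) ∪ (fun x => g * x) '' ((M ⊓ Grp : Subgroup _) : Set (Equiv.Perm Pt)) := by
    intro x hx
    by_cases h : x ∈ Grp
    · exact Or.inl ⟨hx, h⟩
    · refine Or.inr ⟨g⁻¹ * x, ⟨show g⁻¹ * x ∈ M from mul_mem (inv_mem hg) hx, mul_mem_outer (inv_mem (hM hg)) (hM hx) ?_ h⟩, by group⟩
      exact fun e => hgG (by simpa using Subgroup.inv_mem Grp e)
  have := (Set.ncard_le_ncard hsub (Set.toFinite _)).trans (Set.ncard_union_le _ _)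
  rw [Set.ncard_image_of_injective _ (mul_right_injective g), ← Nat.card_coe_set_eq, ← Nat.card_coe_set_eq] at this
  simp only [SetLike.coe_sort_coe] at this
  omega

/-- A bound on the inner part from a count on the Sylow 2-subgroup. -/
theorem inner_le {SA M : Subgroup (Equiv.Perm Pt)}
    (hSm : ∀ x ∈ SA, (x ∈ Grp ∧ ∃ i < 64, x = sylP i) ∨ ∃ i < 64, x = fP * sylP i)
    {c : Equiv.Perm Pt} (hc : c ∈ AGrp) (hcx : ∀ x ∈ M, c * x * c⁻¹ ∈ SA) (hM : ∀ a ∈ M, (a * a) * (a * a) = 1)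
    (P : ℕ → Bool) (hP : ∀ x ∈ M, x ∈ Grp → ∀ j < 64, c * x * c⁻¹ = sylP j → P j = true)
    (hn : (List.range 64).countP P ≤ 15) : Nat.card ↥(M ⊓ Grp) ≤ 8 := by
  classical
  haveI : Fact (Nat.Prime 2) := ⟨Nat.prime_two⟩
  obtain ⟨m, hm⟩ := IsPGroup.iff_card.1 (isPGroup_sq (M := M ⊓ Grp) fun a ha => hM a ha.1)
  have h15 : Nat.card ↥(M ⊓ Grp) ≤ 15 := by
    have h1 : ((M ⊓ Grp : Subgroup _) : Set (Equiv.Perm Pt)).ncard ≤
        ((((List.range 64).filter P).map sylP).toFinset : Set (Equiv.Perm Pt)).ncard := by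
      refine Set.ncard_le_ncard_of_injOn (fun x => c * x * c⁻¹) (fun x hx => ?_)
        (fun a _ b _ e => mul_left_cancel (mul_right_cancel e)) (Finset.finite_toSet _)
      obtain ⟨hxM, hxG⟩ := hx
      rcases hSm _ (hcx x hxM) with ⟨-, j, hj, e⟩ | ⟨j, hj, e⟩
      · exact Finset.mem_coe.2 (List.mem_toFinset.2 (List.mem_map.2
          ⟨j, List.mem_filter.2 ⟨List.mem_range.2 hj, hP x hxM hxG j hj e⟩, e.symm⟩))
      · exfalso
        have h2 : fP * sylP j ∈ Grp := e ▸ conj_mem_grp hc hxG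
        have h3 : sylP j ∈ Grp := by
          obtain ⟨S, -, hSi⟩ := exists_syl
          obtain ⟨y, -, e'⟩ := (hSi _).2 ⟨j, hj, rfl⟩
          exact e' ▸ y.2
        exact out_facts.2.2.1 (by simpa using mul_mem h2 (inv_mem h3))
    rw [Set.ncard_coe_finset, ← Nat.card_coe_set_eq] at h1
    refine h1.trans ((List.toFinset_card_le _).trans ?_)
    rwa [List.length_map, ← List.countP_eq_length_filter]
  rw [hm] at h15 ⊢
  have : m ≤ 3 := by
    by_contra h
    have := Nat.pow_le_pow_right (show 2 > 0 by norm_num) (show 4 ≤ m by omega)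
    omega
  exact Nat.pow_le_pow_right (show 2 > 0 by norm_num) this

/-- A subgroup of exponent two has order at most 16. -/
theorem elem16A {M : Subgroup (Equiv.Perm Pt)} (hM : M ≤ AGrp) (hsq : ∀ a ∈ M, a * a = 1) :
    Nat.card M ≤ 16 := by
  by_cases hG : M ≤ Grp
  · exact elem16 hG hsq
  obtain ⟨g, hg, hgG⟩ := SetLike.not_le_iff_exists.1 hG
  obtain ⟨SA, hSA, hSc, -, hSm⟩ := exists_SA
  have hM4 : ∀ a ∈ M, (a * a) * (a * a) = 1 := fun a ha => by rw [hsq a ha, one_mul]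
  obtain ⟨c, hc, hcx⟩ := conj_into (K := AGrp) le_rfl hSA hSc hM hM4
  rcases hSm _ (hcx g hg) with ⟨h, -⟩ | ⟨i, hi, e⟩
  · exact absurd ((conj_grp_iff hc).1 h) hgG
  have hsqi : fP * sylP i * (fP * sylP i) = 1 := by
    rw [← e, show c * g * c⁻¹ * (c * g * c⁻¹) = c * (g * g) * c⁻¹ by group, hsq g hg, mul_one, mul_inv_cancel]
  obtain ⟨hri, hout⟩ := out_facts.2.2.2.2.2.2 i hi
  have h8 := inner_le hSm hc hcx hM4 _ (fun x hxM hxG j hj ej => ?_) (Nat.le_of_ble_eq_true (hout hsqi).2)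
  · have := card_coset hM hg hgG
    omega
  · simp only [Bool.and_eq_true, Nat.beq_eq]
    have hxx : sylP j * sylP j = 1 := by
      rw [← ej, show c * x * c⁻¹ * (c * x * c⁻¹) = c * (x * x) * c⁻¹ by group, hsq x hxM, mul_one, mul_inv_cancel]
    have hcom : sylP j * (fP * sylP i) = fP * sylP i * sylP j := by
      rw [← ej, ← e, show c * x * c⁻¹ * (c * g * c⁻¹) = c * (x * g) * c⁻¹ by group]
      have h1 : x * g * (x * g) = 1 := hsq _ (mul_mem hxM hg)
      rw [show x * g = g * x by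
        rw [eq_comm, ← inv_eq_of_mul_eq_one_right h1, mul_inv_rev, inv_eq_of_mul_eq_one_right (hsq g hg),
          inv_eq_of_mul_eq_one_right (hsq x hxM)]]
      group
    refine ⟨?_, ?_⟩
    · have h0 := rep_mul (rep_syl hj) (rep_syl hj)
      rw [hxx] at h0
      exact canon_eq (a := mul 6 45 (sylE j) (sylE j)) (b := one 6 45) h0 (rep_one (by norm_num))
    · have h0 := rep_mul (rep_syl hj) hri
      rw [hcom] at h0
      exact canon_eq (a := mul 6 45 (sylE j) (outE i)) (b := mul 6 45 (outE i) (sylE j)) h0 (rep_mul hri (rep_syl hj))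

/-- A subgroup with squares in the group of a transvection centralising it. -/
theorem tr32A {p : Pt} {M : Subgroup (Equiv.Perm Pt)} (hM : M ≤ AGrp)
    (hsq : ∀ a ∈ M, a * a = 1 ∨ a * a = tvP p) (hc : ∀ a ∈ M, Commute a (tvP p)) :
    Nat.card M ≤ 32 ∧ (Nat.card M = 32 →
      ∀ a ∈ M, (∀ b ∈ M, Commute a b) → a = 1 ∨ a = tvP p) := by
  by_cases hG : M ≤ Grp
  · exact tr32 hG hsq hc
  obtain ⟨g, hg, hgG⟩ := SetLike.not_le_iff_exists.1 hG
  obtain ⟨h, hh, hp⟩ := exists_move p p15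
  obtain ⟨SA, hSA, hSc, hST, hSm⟩ := exists_SA
  have hT : h * tvP p * h⁻¹ = tvP p15 := by rw [tvP_conj hh, hp]
  let K : Subgroup (Equiv.Perm Pt) := AGrp ⊓ Subgroup.centralizer {tvP p15}
  have hM4 : ∀ a ∈ M, (a * a) * (a * a) = 1 := fun a ha => by
    rcases hsq a ha with q | q <;> rw [q]
    exacts [one_mul 1, tvP_sq p]
  obtain ⟨c, hcK, hcx⟩ := conj_into (K := K) inf_le_left
    (fun x hx => ⟨hSA hx, Subgroup.mem_centralizer_singleton_iff.2 (hST x hx).eq⟩) hSc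
    (M := M.map (MulAut.conj h).toMonoidHom) (by
      rintro _ ⟨a, ha, rfl⟩
      refine ⟨show h * a * h⁻¹ ∈ AGrp from mul_mem (mul_mem (grp_le hh) (hM ha)) (inv_mem (grp_le hh)), ?_⟩
      refine Subgroup.mem_centralizer_singleton_iff.2 ?_
      show h * a * h⁻¹ * tvP p15 = tvP p15 * (h * a * h⁻¹)
      rw [← hT, show h * a * h⁻¹ * (h * tvP p * h⁻¹) = h * (a * tvP p) * h⁻¹ by group, (hc a ha).eq]
      group)
    (by
      rintro _ ⟨a, ha, rfl⟩
      show h * a * h⁻¹ * (h * a * h⁻¹) * (h * a * h⁻¹ * (h * a * h⁻¹)) = 1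
      rw [show h * a * h⁻¹ * (h * a * h⁻¹) * (h * a * h⁻¹ * (h * a * h⁻¹)) = h * (a * a * (a * a)) * h⁻¹ by group,
        hM4 a ha, mul_one, mul_inv_cancel])
  have hd : c * h ∈ AGrp := mul_mem hcK.1 (grp_le hh)
  have hdx : ∀ x ∈ M, c * h * x * (c * h)⁻¹ ∈ SA := fun x hx => by
    rw [show c * h * x * (c * h)⁻¹ = c * (h * x * h⁻¹) * c⁻¹ by group]
    exact hcx _ ⟨x, hx, rfl⟩
  have hdT : c * h * tvP p * (c * h)⁻¹ = tvP p15 := by
    rw [show c * h * tvP p * (c * h)⁻¹ = c * (h * tvP p * h⁻¹) * c⁻¹ by group, hT,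
      Subgroup.mem_centralizer_singleton_iff.1 hcK.2, mul_inv_cancel_right]
  have hsqB : ∀ {a : Equiv.Perm Pt} {e : Elt}, a ∈ M → Rep 6 e (c * h * a * (c * h)⁻¹) → sqB e.1 = true := by
    intro a e ha hr
    have hr2 := rep_mul hr hr
    rw [show c * h * a * (c * h)⁻¹ * (c * h * a * (c * h)⁻¹) = c * h * (a * a) * (c * h)⁻¹ by group] at hr2
    simp only [sqB, Bool.or_eq_true, Nat.beq_eq]
    rcases hsq a ha with q | q
    · rw [q, mul_one, mul_inv_cancel] at hr2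
      exact Or.inl (canon_eq (a := mul 6 45 e e) (b := one 6 45) hr2 (rep_one (by norm_num)))
    · rw [q, hdT] at hr2
      exact Or.inr (canon_eq (a := mul 6 45 e e) (b := tvElt 15) hr2 (rep_tv p15))
  rcases hSm _ (hdx g hg) with ⟨h', -⟩ | ⟨i, hi, e⟩
  · exact absurd ((conj_grp_iff hd).1 h') hgG
  obtain ⟨hri, -⟩ := out_facts.2.2.2.2.2.2 i hi
  have hcnt : ((List.range 64).countP fun j => sqB (sylE j).1 && sqB (comp 6 45 (outE i).1 (sylE j).1)) ≤ 15 := by
    have h := allBelow_spec _ _ small_ok i hi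
    rw [hsqB hg (e ▸ hri)] at h
    simp only [Bool.not_true, Bool.false_or] at h
    exact Nat.le_of_ble_eq_true h
  have h8 := inner_le hSm hd hdx hM4 _ (fun x hxM _ j hj ej => ?_) hcnt
  · have := card_coset hM hg hgG
    exact ⟨by omega, fun h32 => absurd h32 (by omega)⟩
  · rw [Bool.and_eq_true]
    refine ⟨hsqB hxM (ej ▸ rep_syl hj), ?_⟩
    have hm := rep_mul hri (rep_syl hj)
    rw [← e, ← ej, show c * h * g * (c * h)⁻¹ * (c * h * x * (c * h)⁻¹) = c * h * (g * x) * (c * h)⁻¹ by group] at hm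
    exact hsqB (e := mul 6 45 (outE i) (sylE j)) (mul_mem hg hxM) hm

end Cfsg.Agent.U62Aut
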